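import Cfsg.Agent.H915.GNDefs
import Cfsg.Agent.H690.LieRow

/-!
# Names of Lie type have a split (B,N)-pair (helper570)

`hasSplit_of_real`.
-/

set_option autoImplicit false

namespace Cfsg.Agent.H570.Bn.Lp

open Cfsg Cfsg.Agent.OrdDiv Cfsg.Agent.H436 Cfsg.Agent.H915.GN Cfsg.Agent.FixBN

universe v

theorem eq_prime {p a f m : ℕ} (hp : p.Prime) (ha : a.Prime) (hm : m ≠ 0) (h : a ^ m = p ^ f) : p = a := by
  have h1 : a ∣ p ^ f := by rw [← h]; exact dvd_pow_self a hm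
  exact ((Nat.prime_dvd_prime_iff_eq ha hp).1 (ha.dvd_of_dvd_pow h1)).symm

theorem isLieTypeChar_of_real {p : ℕ} (hp : p.Prime) {g : Grp} {T : Type v} [Group T] (hc : Cond g)
    (hch : HasChar p g) (hr : Real g T) : IsLieTypeChar p T := by
  have : Fact p.Prime := ⟨hp⟩
  cases g with
  | psl n q =>
    obtain ⟨F, i1, i2, hF, he⟩ := hr
    obtain ⟨f, rfl⟩ := hch
    exact Or.inl ⟨F, i1, i2, charP_of_card_eq_prime_pow hF, n, hc.1, fun h => by rw [hF]; exact hc.2.1 h, he⟩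
  | psp n q =>
    obtain ⟨F, i1, i2, hF, he⟩ := hr
    obtain ⟨f, rfl⟩ := hch
    exact Or.inr (Or.inl ⟨F, i1, i2, charP_of_card_eq_prime_pow hF, n, hc.1,
      fun h => by rw [hF]; exact hc.2.1 h, he⟩)
  | psu n q =>
    obtain ⟨F, i1, i2, hF, he⟩ := hr
    obtain ⟨f, rfl⟩ := hch
    exact Or.inr (Or.inr (Or.inl ⟨F, i1, i2, charP_of_card_eq_prime_pow (f := f * 2) (by rw [hF, ← pow_mul]),
      n, p ^ f, hF, hc.1, hc.2.1, he⟩))
  | oodd m q =>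
    obtain ⟨F, i1, i2, hF, he⟩ := hr
    obtain ⟨f, rfl⟩ := hch
    exact Or.inr (Or.inr (Or.inr (Or.inl ⟨F, i1, i2, charP_of_card_eq_prime_pow hF, m, hc.1,
      by rw [hF]; exact hc.2.1, he⟩)))
  | oplus m q =>
    obtain ⟨F, i1, i2, hF, he⟩ := hr
    obtain ⟨f, rfl⟩ := hch
    exact Or.inr (Or.inr (Or.inr (Or.inr (Or.inl ⟨F, i1, i2, charP_of_card_eq_prime_pow hF, m, hc.1, he⟩))))
  | ominus m q =>
    obtain ⟨F, i1, i2, a, b, hF, hab, he⟩ := hr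
    obtain ⟨f, rfl⟩ := hch
    exact Or.inr (Or.inr (Or.inr (Or.inr (Or.inr (Or.inl
      ⟨F, i1, i2, charP_of_card_eq_prime_pow hF, m, a, b, hc.1, hab, he⟩)))))
  | g2 q =>
    obtain ⟨F, i1, i2, hF, he⟩ := hr
    obtain ⟨f, rfl⟩ := hch
    exact Or.inr (Or.inr (Or.inr (Or.inr (Or.inr (Or.inr (Or.inl
      ⟨F, i1, i2, charP_of_card_eq_prime_pow hF, Or.inl ⟨by rw [hF]; exact hc.1, he⟩⟩))))))
  | f4 q =>
    obtain ⟨F, i1, i2, hF, he⟩ := hr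
    obtain ⟨f, rfl⟩ := hch
    exact Or.inr (Or.inr (Or.inr (Or.inr (Or.inr (Or.inr (Or.inl
      ⟨F, i1, i2, charP_of_card_eq_prime_pow hF, Or.inr (Or.inl he)⟩))))))
  | e6 q =>
    obtain ⟨F, i1, i2, hF, he⟩ := hr
    obtain ⟨f, rfl⟩ := hch
    exact Or.inr (Or.inr (Or.inr (Or.inr (Or.inr (Or.inr (Or.inl
      ⟨F, i1, i2, charP_of_card_eq_prime_pow hF, Or.inr (Or.inr (Or.inl he))⟩))))))
  | e7 q =>
    obtain ⟨F, i1, i2, hF, he⟩ := hr
    obtain ⟨f, rfl⟩ := hch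
    exact Or.inr (Or.inr (Or.inr (Or.inr (Or.inr (Or.inr (Or.inl
      ⟨F, i1, i2, charP_of_card_eq_prime_pow hF, Or.inr (Or.inr (Or.inr (Or.inl he)))⟩))))))
  | e8 q =>
    obtain ⟨F, i1, i2, hF, he⟩ := hr
    obtain ⟨f, rfl⟩ := hch
    exact Or.inr (Or.inr (Or.inr (Or.inr (Or.inr (Or.inr (Or.inl
      ⟨F, i1, i2, charP_of_card_eq_prime_pow hF, Or.inr (Or.inr (Or.inr (Or.inr he)))⟩))))))
  | te6 q =>
    obtain ⟨F, i1, i2, hF, he⟩ := hr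
    obtain ⟨f, rfl⟩ := hch
    exact Or.inr (Or.inr (Or.inr (Or.inr (Or.inr (Or.inr (Or.inr (Or.inl
      ⟨F, i1, i2, charP_of_card_eq_prime_pow (f := f * 2) (by rw [hF, ← pow_mul]), p ^ f, hc,
        Or.inl ⟨hF, he⟩⟩)))))))
  | td4 q =>
    obtain ⟨F, i1, i2, hF, he⟩ := hr
    obtain ⟨f, rfl⟩ := hch
    exact Or.inr (Or.inr (Or.inr (Or.inr (Or.inr (Or.inr (Or.inr (Or.inl
      ⟨F, i1, i2, charP_of_card_eq_prime_pow (f := f * 3) (by rw [hF, ← pow_mul]), p ^ f, hc,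
        Or.inr ⟨hF, he⟩⟩)))))))
  | sz q =>
    obtain ⟨F, i1, i2, m, hm, hF, hq, he⟩ := hr
    obtain ⟨f, hf⟩ := hch
    have h2 : p = 2 := eq_prime hp Nat.prime_two (by omega) (hq.symm.trans hf)
    exact Or.inr (Or.inr (Or.inr (Or.inr (Or.inr (Or.inr (Or.inr (Or.inr (Or.inl
      ⟨h2, F, i1, i2, m, hm, hF.trans hq, he⟩))))))))
  | ree q =>
    obtain ⟨F, i1, i2, m, hm, hF, hq, he⟩ := hr
    obtain ⟨f, hf⟩ := hch
    have h2 : p = 3 := eq_prime hp Nat.prime_three (by omega) (hq.symm.trans hf)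
    exact Or.inr (Or.inr (Or.inr (Or.inr (Or.inr (Or.inr (Or.inr (Or.inr (Or.inr (Or.inr
      ⟨h2, F, i1, i2, m, hm, hF.trans hq, he⟩)))))))))
  | tf4 q =>
    obtain ⟨F, i1, i2, m, hm, hF, hq, he⟩ := hr
    obtain ⟨f, hf⟩ := hch
    have h2 : p = 2 := eq_prime hp Nat.prime_two (by omega) (hq.symm.trans hf)
    exact Or.inr (Or.inr (Or.inr (Or.inr (Or.inr (Or.inr (Or.inr (Or.inr (Or.inr (Or.inl
      ⟨h2, F, i1, i2, m, hm, hF.trans hq, he⟩)))))))))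
  | _ => exact hch.elim

/-- **the groups named of Lie type in characteristic `p` have a split (B,N)-pair of characteristic `p`** -/
theorem hasSplit_of_real {p : ℕ} (hp : p.Prime) {g : Grp} {T : Type v} [Group T] [IsSimpleGroup T] (hc : Cond g)
    (hch : HasChar p g) (hr : Real g T) : HasSplit p T :=
  Cfsg.Agent.H690.LieRow.hasSplit hp (isLieTypeChar_of_real hp hc hch hr)

end Cfsg.Agent.H570.Bn.Lp
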