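import Cfsg.Agent.H570.Bn.Half

/-!
# `BNCase` of S5731 (helper570)

`bnCase_of` : the simple groups with a split (B,N)-pair of characteristic `p`.
-/

set_option autoImplicit false
set_option linter.unusedSectionVars false
set_option linter.style.haveILetI false

namespace Cfsg.Agent.H570.Bn.Main

open Cfsg.Agent.H192.Af Cfsg.Agent.H570.Bn.Mk Cfsg.Agent.H570.Bn.Abs Cfsg.Agent.H570.Bn.Cmps
open Cfsg.Agent.H570.Bn.Hom Cfsg.Agent.H570.Bn.Half
open Cfsg.Agent.Tits.Core Cfsg.Agent.Tits.OfBN Cfsg.Agent.Schreier.BNSch Cfsg.Agent.FixBN Cfsg.Agent.H905.DC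

universe u v

section

variable {V : Type u} [AddCommGroup V] [Finite V] {H : Type v} [Group H] [Finite H] [DistribMulAction H V]
  [FaithfulSMul H V] {p : ℕ} [hp : Fact p.Prime]

theorem comp_of_split (hpV : ∀ w : V, p • w = 0) [Nontrivial V] (E : Subgroup H) {T : Type*} [Group T] [Finite T]
    (hsp : HasSplit p T) (φ : E →* T) (hφ : Function.Surjective φ) (hk : φ.ker ≤ Subgroup.center E)
    (hcop : (Nat.card φ.ker).Coprime p) (hH : Homog V E) :
    ∃ (U : Subgroup H) (r : ℕ) (𝒜 : Finset (AddSubgroup V)), Comp p E U r 𝒜 ∧ Disj E U V := by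
  classical
  have hpE : p ∣ Nat.card E :=
    (Cfsg.Agent.H690.LieGood.dvd_card_of_hasSplit hsp).trans (Subgroup.card_dvd_of_surjective φ hφ)
  obtain ⟨P, U, hPne, h⟩ := hsp
  have hN' : ((P.B ⊓ P.N).subgroupOf P.N).Normal := normal_subgroupOf P
  obtain ⟨M', cs, hcs⟩ := S0320.result P
  have hI : Finite P.S := OfBN.finite_I (Equiv.refl P.S)
  have hIn : Nonempty P.S := hPne.to_subtype
  have Sy := OfBN.sys (Equiv.refl P.S) cs hcs h
  have hth := thick P (Equiv.refl P.S) cs hcs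
  let _ : Fintype (T ⧸ P.B) := Fintype.ofFinite _
  let _ : MulAction E (T ⧸ P.B) := MulAction.compHom (T ⧸ P.B) φ
  have Sy' := sysLift Sy φ hk hcop hφ
  obtain ⟨r, 𝒜, hC, hD⟩ := exists_comp hth E Sy' hpV hH hpE ((1 : T) : T ⧸ P.B)
  exact ⟨_, r, 𝒜, hC, hD⟩

theorem coprime_of_central (hpV : ∀ w : V, p • w = 0) {M E : Subgroup H} (h : Homog V M) (K : Subgroup E)
    (hK : ∀ x : E, x ∈ K → ∃ z : M, z ∈ Subgroup.center M ∧ (z : H) = x) : (Nat.card K).Coprime p := by
  rw [Nat.coprime_comm, hp.1.coprime_iff_not_dvd]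
  intro hd
  obtain ⟨x, hx⟩ := exists_prime_orderOf_dvd_card' p hd
  obtain ⟨z, hz, hzx⟩ := hK x x.2
  have h1 : ((x : E) : H) = 1 := by
    rw [← hzx]
    refine eq_one_of_homog hpV h z.2 ?_ ?_
    · intro m hm
      exact congrArg Subtype.val (Subgroup.mem_center_iff.1 hz ⟨m, hm⟩)
    · have h2 : x ^ p = 1 := by rw [← hx]; exact pow_orderOf_eq_one x
      rw [hzx]
      exact congrArg (fun y : K => ((y : E) : H)) h2
  have h2 : x = 1 := Subtype.ext (Subtype.ext h1)
  rw [h2, orderOf_one] at hx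
  exact hp.1.one_lt.ne hx

end

/-- representatives bound the rank -/
theorem rnk_le {V : Type u} [AddCommGroup V] {H : Type v} [Group H] [DistribMulAction H V] (v : V)
    (U : Subgroup H) (hU : ∀ u ∈ U, u • v = v) (F : Finset V) (hF : ∀ h : H, ∃ u ∈ U, u • h • v ∈ F) :
    rnk V H v ≤ F.card := by
  classical
  let g : {x : V // x ∈ F ∧ x ∈ MulAction.orbit H v} →
      MulAction.orbitRel.Quotient (MulAction.stabilizer H v) (MulAction.orbit H v) :=
    fun x => Quotient.mk'' ⟨x.1, x.2.2⟩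
  have hg : Function.Surjective g := by
    intro q
    induction q using Quotient.inductionOn' with
    | h x =>
      obtain ⟨_, h, rfl⟩ := x
      obtain ⟨u, hu, hF'⟩ := hF h
      refine ⟨⟨u • h • v, hF', u * h, mul_smul _ _ _⟩, ?_⟩
      refine Quotient.sound' ?_
      refine ⟨⟨u, hU u hu⟩, rfl⟩
  have hfin : Finite {x : V // x ∈ F ∧ x ∈ MulAction.orbit H v} :=
    Finite.of_injective (fun x : {x : V // x ∈ F ∧ x ∈ MulAction.orbit H v} => (⟨x.1, x.2.1⟩ : F)) fun x y hxy => by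
      apply Subtype.ext
      exact congrArg (fun z : F => (z : V)) hxy
  have h1 := Nat.card_le_card_of_surjective g hg
  refine h1.trans ?_
  have h2 : Nat.card {x : V // x ∈ F ∧ x ∈ MulAction.orbit H v} ≤ Nat.card F :=
    Nat.card_le_card_of_injective (fun x : {x : V // x ∈ F ∧ x ∈ MulAction.orbit H v} => (⟨x.1, x.2.1⟩ : F))
      fun x y hxy => by
        apply Subtype.ext
        exact congrArg (fun z : F => (z : V)) hxy
  refine h2.trans ?_
  rw [Nat.card_eq_fintype_card, Fintype.card_coe]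

theorem pow_six_le : ∀ R : ℕ, 20 ≤ R → R ^ 6 ≤ 64 * 2 ^ R := by
  intro R hR
  induction R, hR using Nat.le_induction with
  | base => norm_num
  | succ R hR ih =>
    have h1 : 20 * (R + 1) ≤ 21 * R := by omega
    have h2 := Nat.pow_le_pow_left h1 6
    rw [mul_pow, mul_pow] at h2
    have h3 : (21 : ℕ) ^ 6 * R ^ 6 ≤ 2 * 20 ^ 6 * R ^ 6 := Nat.mul_le_mul_right _ (by norm_num)
    have h4 : (20 : ℕ) ^ 6 * (R + 1) ^ 6 ≤ 20 ^ 6 * (2 * R ^ 6) := by
      calc (20 : ℕ) ^ 6 * (R + 1) ^ 6 ≤ 21 ^ 6 * R ^ 6 := h2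
        _ ≤ 2 * 20 ^ 6 * R ^ 6 := h3
        _ = 20 ^ 6 * (2 * R ^ 6) := by ring
    have h5 := Nat.le_of_mul_le_mul_left h4 (by norm_num)
    calc (R + 1) ^ 6 ≤ 2 * R ^ 6 := h5
      _ ≤ 2 * (64 * 2 ^ R) := Nat.mul_le_mul_left _ ih
      _ = 64 * 2 ^ (R + 1) := by ring

/-- the numerical inequality, `R ≥ 3` -/
theorem num_three {R f n : ℕ} (hR : 3 ≤ R) (hf : 2 ≤ f) (hn : f ^ R ≤ n) (hN : 2 ^ 20 ≤ n) :
    (R * (f - 1) + 3) ^ 2 ≤ 4 * n := by
  have h1 : R * (f - 1) + 3 ≤ R * f := by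
    obtain ⟨g, rfl⟩ : ∃ g, f = g + 1 := ⟨f - 1, by omega⟩
    rw [Nat.add_sub_cancel]
    nlinarith
  refine (Nat.pow_le_pow_left h1 2).trans ?_
  have h2 : R ^ 6 ≤ 64 * n := by
    rcases le_total R 20 with h | h
    · calc R ^ 6 ≤ 20 ^ 6 := Nat.pow_le_pow_left h 6
        _ ≤ 64 * 2 ^ 20 := by norm_num
        _ ≤ 64 * n := Nat.mul_le_mul_left _ hN
    · calc R ^ 6 ≤ 64 * 2 ^ R := pow_six_le R h
        _ ≤ 64 * f ^ R := Nat.mul_le_mul_left _ (Nat.pow_le_pow_left hf R)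
        _ ≤ 64 * n := Nat.mul_le_mul_left _ hn
  have h3 : f ^ 3 ≤ n := (Nat.pow_le_pow_right (by omega) hR).trans hn
  have h4 : ((R * f) ^ 2) ^ 3 ≤ (4 * n) ^ 3 := by
    calc ((R * f) ^ 2) ^ 3 = R ^ 6 * (f ^ 3) ^ 2 := by ring
      _ ≤ 64 * n * n ^ 2 := Nat.mul_le_mul h2 (Nat.pow_le_pow_left h3 2)
      _ = (4 * n) ^ 3 := by ring
  exact le_of_pow_le_pow_left₀ (by norm_num) (Nat.zero_le _) h4

/-- the numerical inequality, `R = 2` -/
theorem num_two {f n : ℕ} (hf : 2 ≤ f) (hn : 2 * f ^ 2 ≤ n) : (2 * (f - 1) + 3) ^ 2 ≤ 4 * n := by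
  have h1 : 2 * (f - 1) + 3 = 2 * f + 1 := by omega
  rw [h1]
  nlinarith

/-- the criterion -/
def Crit : Prop :=
  ∀ (V : Type u) [AddCommGroup V] [Finite V] (H : Type v) [Group H] [Finite H] [DistribMulAction H V] (w : V),
    w ≠ 0 → (rnk V H w + 3) ^ 2 ≤ 4 * Nat.card V → Tgt V H

/-- **`BNCase` for the groups with a split (B,N)-pair of characteristic `p`** -/
theorem bnCase_of (hcr : Crit.{u, v}) {LP : ∀ (_ : ℕ) (T : Type v) [Group T], Prop}
    (hLP : ∀ (p : ℕ) (T : Type v) [Group T] [Finite T] [IsSimpleGroup T], p.Prime → ¬ IsMulCommutative T → LP p T →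
      HasSplit p T) : BNCase.{u, v} LP := by
  classical
  refine ⟨2 ^ 20, ?_⟩
  intro p V _ _ H _ _ _ _ M _ T _ _ s hp hpV hHom hM hs ⟨e⟩ hT hLPT hN
  haveI : Fact p.Prime := ⟨hp⟩
  haveI : Nontrivial V := by
    rw [← Finite.one_lt_card_iff_nontrivial]
    exact lt_of_lt_of_le (by norm_num) hN
  haveI : Finite T := by
    have h1 : Finite (Fin s → T) := Finite.of_equiv _ e.toEquiv
    exact Finite.of_injective (fun t => (fun _ : Fin s => t)) fun a b h => congrFun h ⟨0, hs⟩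
  have hsp := hLP p T hp hT hLPT
  obtain ⟨E, hEM, hcomm, hsup, hperf, hφ⟩ := exists_comps M hM hT e
  have hHM : Homog V M := hHom M inferInstance
  have hHE : ∀ i, Homog V (E i) := by
    intro i
    refine homog_of (hEM i) ?_ hHM
    intro m hm
    rw [← hsup] at hm
    obtain ⟨e', he'⟩ := exists_of_mem hcomm hm
    obtain ⟨c, hc, h⟩ := ph_eq hcomm e' i
    exact ⟨e' i, (e' i).2, c, hc, he' ▸ h⟩
  have hcomp : ∀ i, ∃ (U : Subgroup H) (r : ℕ) (𝒜 : Finset (AddSubgroup V)), Comp p (E i) U r 𝒜 ∧ Disj (E i) U V := by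
    intro i
    obtain ⟨φ, hφs, hφk⟩ := hφ i
    refine comp_of_split hpV (E i) hsp φ hφs ?_ ?_ (hHE i)
    · intro x hx
      obtain ⟨z, hz, hzx⟩ := hφk x hx
      rw [Subgroup.mem_center_iff]
      intro y
      apply Subtype.ext
      have h1 := congrArg Subtype.val (Subgroup.mem_center_iff.1 hz ⟨y, hEM i y.2⟩)
      change (y : H) * z = z * y at h1
      rw [hzx] at h1
      exact h1
    · exact coprime_of_central hpV hHM φ.ker hφk
  choose U r 𝒜 hC hD using hcomp
  have hUn : (⨆ i, E i : Subgroup H).Normal := by rw [hsup]; infer_instance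
  set R := ∏ i, r i with hRdef
  set f := Nat.card (Fx V (UU U hcomm)) with hfdef
  have hfR : f ^ R ≤ Nat.card V := card_pow_le hcomm hC
  have hPU := isPGroup_UU hcomm hC
  obtain ⟨v, -, hv0, hv⟩ := exists_fixed hpV hPU (L := (⊤ : AddSubgroup V)) top_ne_bot (fun _ _ _ _ => trivial)
  have hf2 : 2 ≤ f := by
    have h1 : Nontrivial (Fx V (UU U hcomm)) :=
      ⟨⟨⟨v, hv⟩, 0, fun h => hv0 (congrArg Subtype.val h)⟩⟩
    exact Finite.one_lt_card_iff_nontrivial.2 h1
  obtain ⟨F, hF1, hF2⟩ := exists_finset hcomm hC hUn (v := v) hv hv0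
  have hrnk : rnk V H v ≤ R * (f - 1) := (rnk_le v _ hv F hF2).trans hF1
  have hfin : (R * (f - 1) + 3) ^ 2 ≤ 4 * Nat.card V → Tgt V H := fun h =>
    hcr V H v hv0 ((Nat.pow_le_pow_left (Nat.add_le_add_right hrnk 3) 2).trans h)
  have hRs : 2 ^ s ≤ R := by
    have h1 : ∏ _i : Fin s, 2 ≤ ∏ i, r i := Finset.prod_le_prod' fun i _ => (hC i).two_le
    rwa [Finset.prod_const, Finset.card_univ, Fintype.card_fin] at h1
  have hR2 : 2 ≤ R := le_trans (by
    calc 2 = 2 ^ 1 := rfl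
      _ ≤ 2 ^ s := Nat.pow_le_pow_right (by norm_num) hs) hRs
  rcases Nat.lt_or_ge 2 R with hR3 | hR3
  · exact Or.inl (hfin (num_three hR3 hf2 hfR hN))
  have hR : R = 2 := le_antisymm hR3 hR2
  have hs1 : s = 1 := by
    by_contra hne
    have h1 : 2 ^ 2 ≤ 2 ^ s := Nat.pow_le_pow_right (by norm_num) (by omega)
    omega
  rcases hfR.lt_or_eq with hlt | heq
  · left
    refine hfin ?_
    rw [hR] at hlt ⊢
    refine num_two hf2 ?_
    -- powers of `p`
    obtain ⟨a, ha⟩ : ∃ a, Nat.card V = p ^ a := by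
      have h1 : IsPGroup p (Multiplicative V) := by
        intro x
        refine ⟨1, ?_⟩
        rw [pow_one]
        exact hpV x.toAdd
      obtain ⟨a, ha⟩ := IsPGroup.iff_card.1 h1
      exact ⟨a, ha⟩
    have h2 : f ∣ p ^ a := by
      rw [← ha]
      exact AddSubgroup.card_addSubgroup_dvd_card _
    obtain ⟨b, -, hb⟩ := (Nat.dvd_prime_pow hp).1 h2
    rw [hb, ha, ← pow_mul] at hlt ⊢
    have h3 : b * 2 < a := (Nat.pow_lt_pow_iff_right hp.one_lt).1 hlt
    calc 2 * p ^ (b * 2) ≤ p * p ^ (b * 2) := Nat.mul_le_mul_right _ hp.two_le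
      _ = p ^ (b * 2 + 1) := by rw [pow_succ, mul_comm]
      _ ≤ p ^ a := Nat.pow_le_pow_right hp.pos h3
  · right
    subst hs1
    have hr0 : r 0 = 2 := by
      rw [← hR, hRdef, Fin.prod_univ_one]
    have hE0 : E 0 = M := by
      rw [← hsup]
      refine le_antisymm (le_iSup E 0) (iSup_le fun i => ?_)
      rw [Subsingleton.elim i 0]
    have hFx : Fx V (UU U hcomm) = Fx V (U 0) := by
      ext w
      rw [mem_Fx_UU hcomm hC]
      exact ⟨fun h => h 0, fun h i => by rw [Subsingleton.elim i 0]; exact h⟩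
    have hC0 := hC 0
    have hD0 := hD 0
    rw [hr0, hE0] at hC0
    rw [hE0] at hD0
    have e1 : (Fin 1 → T) ≃* T :=
      { toFun := fun x => x 0
        invFun := fun t _ => t
        left_inv := fun x => by
          funext i
          rw [Subsingleton.elim i 0]
        right_inv := fun t => rfl
        map_mul' := fun x y => rfl }
    intro h hh
    refine central_of_half hM (e.trans e1) hC0 hD0 ?_ ?_ ?_ hh
    · rw [← hFx]
      exact hf2
    · rw [← hFx, ← hfdef, ← hR]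
      exact heq
    · intro h
      obtain ⟨e', he'⟩ := exists_conj (V := V) hcomm hC hUn h
      refine ⟨ph hcomm e', ?_, fun w => ?_⟩
      · rw [← hE0]
        exact ph_mem hcomm e' fun i => by rw [Subsingleton.elim i 0]; exact (e' 0).2
      · rw [← hFx, ← he']
        have hUU : ∀ u : H, u ∈ UU U hcomm ↔ u ∈ U 0 := by
          intro u
          rw [mem_UU]
          constructor
          · rintro ⟨e'', h1, rfl⟩
            refine ph_mem hcomm e'' fun i => ?_
            rw [Subsingleton.elim i 0]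
            exact h1 0
          · intro hu
            refine ⟨Pi.mulSingle 0 ⟨u, (hC 0).le hu⟩, fun i => ?_, ph_single hcomm 0 _⟩
            rw [Subsingleton.elim i 0, Pi.mulSingle_eq_same]
            exact hu
        exact ⟨fun h1 u hu => h1 u ((hUU u).1 hu), fun h1 u hu => h1 u ((hUU u).2 hu)⟩

end Cfsg.Agent.H570.Bn.Main
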