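import Mathlib

/-!
# Orbits on fixed vectors, products of commuting components, abstract form (helper570)

`Comp p E U r 𝒜` : `U` a Sylow `p`-subgroup of `E`, acting on the finite group `V`; `|C_{V'}(U)|^r ≤ |V'|` for the
`E`-invariant `V'`, and at most `r` spaces `𝒜` represent the `U`-orbits on `{C_V(U^g) : g ∈ E}`.

* `cover` : `M = ∏ E i` normal in `H`, `U = ∏ U i`, `v ∈ C_V(U)`: the `U`-orbits on `v^H` have at most
  `∏ r i * (|C_V(U)| - 1)` representatives;
* `card_pow_le` : `|C_V(U)| ^ ∏ r i ≤ |V|`.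
-/

set_option autoImplicit false
set_option linter.unusedSectionVars false

namespace Cfsg.Agent.H570.Bn.Abs

variable {H V : Type*} [Group H] [AddCommGroup V] [DistribMulAction H V]

variable (V) in
/-- fixed vectors -/
def Fx (U : Subgroup H) : AddSubgroup V where
  carrier := {v | ∀ u ∈ U, u • v = v}
  zero_mem' := fun u _ => smul_zero u
  add_mem' := fun {a b} ha hb u hu => by rw [smul_add, ha u hu, hb u hu]
  neg_mem' := fun {a} ha u hu => by rw [smul_neg, ha u hu]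

theorem mem_Fx {U : Subgroup H} {v : V} : v ∈ Fx V U ↔ ∀ u ∈ U, u • v = v := Iff.rfl

/-- data of a component -/
structure Comp (p : ℕ) (E U : Subgroup H) (r : ℕ) (𝒜 : Finset (AddSubgroup V)) : Prop where
  le : U ≤ E
  pgrp : IsPGroup p U
  idx : ¬ p ∣ U.relIndex E
  two_le : 2 ≤ r
  card : 𝒜.card ≤ r
  mem : ∀ A ∈ 𝒜, ∃ g ∈ E, ∀ v, v ∈ A ↔ g⁻¹ • v ∈ Fx V U
  cov : ∀ g ∈ E, ∃ u ∈ U, ∃ A ∈ 𝒜, ∀ v, g⁻¹ • v ∈ Fx V U → u⁻¹ • v ∈ A
  dim : ∀ V' : AddSubgroup V, (∀ g ∈ E, ∀ v ∈ V', g • v ∈ V') →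
    Nat.card (V' ⊓ Fx V U : AddSubgroup V) ^ r ≤ Nat.card V'

theorem cent_smul_mem {E U : Subgroup H} (h : U ≤ E) {c : H} (hc : ∀ x ∈ E, x * c = c * x) {v : V} :
    c • v ∈ Fx V U ↔ v ∈ Fx V U := by
  constructor
  · intro h1 u hu
    have h2 := h1 u hu
    rw [smul_smul, hc u (h hu), mul_smul] at h2
    exact smul_left_cancel c h2
  · intro h1 u hu
    rw [smul_smul, hc u (h hu), mul_smul, h1 u hu]

section prod

variable {ι : Type*} [Fintype ι] [DecidableEq ι] {p : ℕ} {E U : ι → Subgroup H} {r : ι → ℕ}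
  {𝒜 : ι → Finset (AddSubgroup V)}
  (hcomm : Pairwise fun i j : ι => ∀ x y : H, x ∈ E i → y ∈ E j → Commute x y)

/-- the product map -/
abbrev ph : (∀ i, E i) →* H := Subgroup.noncommPiCoprod hcomm

theorem ph_single (i : ι) (x : E i) : ph hcomm (Pi.mulSingle i x) = x :=
  Subgroup.noncommPiCoprod_mulSingle _ _

theorem ph_mem {K : Subgroup H} (e : ∀ i, E i) (h : ∀ i, (e i : H) ∈ K) : ph hcomm e ∈ K := by
  have h1 : ph hcomm e = Finset.univ.noncommProd (fun i => (e i : H)) fun i _ j _ hij =>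
      hcomm hij _ _ (e i).2 (e j).2 := rfl
  rw [h1]
  exact Subgroup.noncommProd_mem _ _ fun i _ => h i

theorem ph_eq (e : ∀ i, E i) (i : ι) : ∃ c : H, (∀ x ∈ E i, x * c = c * x) ∧ ph hcomm e = e i * c := by
  refine ⟨ph hcomm (Function.update e i 1), ?_, ?_⟩
  · have h1 : ph hcomm (Function.update e i 1) ∈ Subgroup.centralizer (E i : Set H) := by
      apply ph_mem
      intro j
      by_cases h : j = i
      · subst h
        rw [Function.update_self]
        exact one_mem _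
      · rw [Function.update_of_ne h, Subgroup.mem_centralizer_iff]
        intro x hx
        exact (hcomm (Ne.symm h) x _ hx (e j).2)
    intro x hx
    exact Subgroup.mem_centralizer_iff.1 h1 x hx
  · rw [← ph_single hcomm i (e i), ← map_mul]
    congr 1
    funext j
    by_cases h : j = i
    · subst h
      simp
    · simp [Function.update_of_ne h, Pi.mulSingle_eq_of_ne h]

theorem act (e : ∀ i, E i) (i : ι) {U : Subgroup H} (hU : U ≤ E i) {v : V} :
    (ph hcomm e)⁻¹ • v ∈ Fx V U ↔ (e i : H)⁻¹ • v ∈ Fx V U := by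
  obtain ⟨c, hc, h⟩ := ph_eq hcomm e i
  rw [h, mul_inv_rev, mul_smul]
  refine cent_smul_mem hU fun x hx => ?_
  have := hc x hx
  calc x * c⁻¹ = c⁻¹ * (c * x) * c⁻¹ := by group
    _ = c⁻¹ * (x * c) * c⁻¹ := by rw [this]
    _ = c⁻¹ * x := by group

variable (U) in
/-- the product of the `U i` -/
def UU : Subgroup H := (Subgroup.pi Set.univ fun i => (U i).subgroupOf (E i)).map (ph hcomm)

theorem mem_UU {x : H} : x ∈ UU U hcomm ↔ ∃ e : ∀ i, E i, (∀ i, (e i : H) ∈ U i) ∧ ph hcomm e = x := by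
  unfold UU
  constructor
  · rintro ⟨e, he, rfl⟩
    exact ⟨e, fun i => he i trivial, rfl⟩
  · rintro ⟨e, he, rfl⟩
    exact ⟨e, fun i _ => he i, rfl⟩

variable (hC : ∀ i, Comp p (E i) (U i) (r i) (𝒜 i))

include hC in
theorem mem_Fx_UU {v : V} : v ∈ Fx V (UU U hcomm) ↔ ∀ i, v ∈ Fx V (U i) := by
  constructor
  · intro h i u hu
    refine h u ?_
    rw [mem_UU]
    refine ⟨Pi.mulSingle i ⟨u, (hC i).le hu⟩, fun j => ?_, ph_single hcomm i _⟩
    by_cases h : j = i
    · subst h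
      rw [Pi.mulSingle_eq_same]
      exact hu
    · rw [Pi.mulSingle_eq_of_ne h]
      exact one_mem _
  · intro h x hx
    rw [mem_UU] at hx
    obtain ⟨e, he, rfl⟩ := hx
    have h1 : ph hcomm e ∈ MulAction.stabilizer H v := by
      apply ph_mem
      intro i
      exact h i _ (he i)
    exact h1

include hC in
/-- `|C_V(U)| ^ ∏ r i ≤ |V|` -/
theorem card_pow_le : Nat.card (Fx V (UU U hcomm)) ^ (∏ i, r i) ≤ Nat.card V := by
  have key : ∀ s : Finset ι, Nat.card (⨅ i ∈ s, Fx V (U i) : AddSubgroup V) ^ (∏ i ∈ s, r i) ≤ Nat.card V := by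
    intro s
    induction s using Finset.induction_on with
    | empty =>
      simp only [Finset.notMem_empty, iInf_false, iInf_top, Finset.prod_empty, pow_one]
      exact le_of_eq (Nat.card_congr AddSubgroup.topEquiv.toEquiv)
    | insert j s hj ih =>
      rw [Finset.prod_insert hj, pow_mul]
      refine le_trans ?_ ih
      refine Nat.pow_le_pow_left ?_ _
      rw [Finset.iInf_insert, inf_comm]
      refine (hC j).dim _ ?_
      intro g hg v hv
      simp only [AddSubgroup.mem_iInf] at hv ⊢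
      intro i hi
      have hij : i ≠ j := fun h => hj (h ▸ hi)
      refine (cent_smul_mem (hC i).le ?_).2 (hv i hi)
      intro x hx
      exact hcomm hij x g hx hg
  have h1 := key Finset.univ
  have h2 : (⨅ i ∈ (Finset.univ : Finset ι), Fx V (U i) : AddSubgroup V) = Fx V (UU U hcomm) := by
    ext v
    rw [mem_Fx_UU hcomm hC]
    simp only [AddSubgroup.mem_iInf, Finset.mem_univ, true_imp_iff]
  rw [h2] at h1
  exact h1

theorem le_range (hle : ∀ i, U i ≤ E i) : UU U hcomm ≤ ⨆ i, E i := by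
  intro x hx
  rw [mem_UU] at hx
  obtain ⟨e, -, rfl⟩ := hx
  apply ph_mem
  intro i
  exact (le_iSup E i) (e i).2

theorem exists_of_mem {x : H} (hx : x ∈ ⨆ i, E i) : ∃ e : ∀ i, E i, ph hcomm e = x := by
  rw [← Subgroup.noncommPiCoprod_range (hcomm := hcomm)] at hx
  exact hx

variable [Finite H] [hp : Fact p.Prime]

include hC in
theorem isPGroup_UU : IsPGroup p (UU U hcomm) := by
  unfold UU
  refine IsPGroup.map ?_ _
  rw [IsPGroup.iff_card]
  have h1 : ∀ i, ∃ n : ℕ, Nat.card ((U i).subgroupOf (E i)) = p ^ n := by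
    intro i
    have h2 := (hC i).pgrp.comap_of_injective (E i).subtype (E i).subtype_injective
    exact IsPGroup.iff_card.1 h2
  choose n hn using h1
  refine ⟨∑ i, n i, ?_⟩
  have h2 : (Subgroup.pi Set.univ fun i => (U i).subgroupOf (E i)) ≃ (∀ i, (U i).subgroupOf (E i)) :=
    { toFun := fun x i => ⟨x.1 i, x.2 i trivial⟩
      invFun := fun f => ⟨fun i => (f i).1, fun i _ => (f i).2⟩
      left_inv := fun x => rfl
      right_inv := fun f => rfl }
  rw [Nat.card_congr h2, Nat.card_pi, Finset.prod_congr rfl fun i _ => hn i, Finset.prod_pow_eq_pow_sum]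

include hC in
theorem not_dvd_index : ¬ p ∣ (UU U hcomm).relIndex (⨆ i, E i) := by
  set Q : Subgroup (∀ i, E i) := Subgroup.pi Set.univ fun i => (U i).subgroupOf (E i) with hQ
  have h0 : Nat.card Q = ∏ i, Nat.card ((U i).subgroupOf (E i)) := by
    have h2 : Q ≃ (∀ i, (U i).subgroupOf (E i)) :=
      { toFun := fun x i => ⟨x.1 i, x.2 i trivial⟩
        invFun := fun f => ⟨fun i => (f i).1, fun i _ => (f i).2⟩
        left_inv := fun x => rfl
        right_inv := fun f => rfl }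
    rw [Nat.card_congr h2, Nat.card_pi]
  have h1 : Q.index = ∏ i, (U i).relIndex (E i) := by
    have h2 : Nat.card Q * Q.index = Nat.card (∀ i, E i) := Q.card_mul_index
    have h3 : Nat.card (∀ i, E i) = (∏ i, Nat.card ((U i).subgroupOf (E i))) * ∏ i, (U i).relIndex (E i) := by
      rw [Nat.card_pi, ← Finset.prod_mul_distrib]
      refine Finset.prod_congr rfl fun i _ => ?_
      exact (((U i).subgroupOf (E i)).card_mul_index).symm
    rw [h3, h0] at h2
    refine Nat.eq_of_mul_eq_mul_left ?_ h2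
    exact Finset.prod_pos fun i _ => Nat.card_pos
  have h2 : ¬ p ∣ Q.index := by
    rw [h1, Prime.dvd_finsetProd_iff hp.1.prime]
    rintro ⟨i, -, hi⟩
    exact (hC i).idx hi
  intro h3
  apply h2
  have h4 : (UU U hcomm).relIndex (⨆ i, E i) = (Q.map (ph hcomm).rangeRestrict).index := by
    have h5 : (UU U hcomm).relIndex (⨆ i, E i) = (UU U hcomm).relIndex (ph hcomm).range := by
      rw [Subgroup.noncommPiCoprod_range (hcomm := hcomm)]
    rw [h5]
    unfold Subgroup.relIndex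
    congr 1
    ext x
    rw [Subgroup.mem_subgroupOf]
    constructor
    · rintro ⟨e, he, h6⟩
      exact ⟨e, he, Subtype.ext h6⟩
    · rintro ⟨e, he, rfl⟩
      exact ⟨e, he, rfl⟩
  rw [h4] at h3
  exact h3.trans (Subgroup.index_map_dvd _ (ph hcomm).rangeRestrict_surjective)

include hC in
/-- conjugates of `U` under `H` are conjugate in `M` -/
theorem exists_conj (hN : (⨆ i, E i : Subgroup H).Normal) (h : H) : ∃ e : ∀ i, E i,
    ∀ v : V, (∀ u ∈ UU U hcomm, (h * u * h⁻¹) • v = v) ↔ (ph hcomm e)⁻¹ • v ∈ Fx V (UU U hcomm) := by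
  set M : Subgroup H := ⨆ i, E i with hM
  have hUM : UU U hcomm ≤ M := le_range hcomm fun i => (hC i).le
  have hP := isPGroup_UU hcomm hC
  have hP1 : IsPGroup p ((UU U hcomm).subgroupOf M) := hP.comap_of_injective M.subtype M.subtype_injective
  have hidx : ¬ p ∣ ((UU U hcomm).subgroupOf M).index := not_dvd_index hcomm hC
  let P : Sylow p M := hP1.toSylow hidx
  have hP2 : IsPGroup p (((UU U hcomm).map (MulAut.conj h).toMonoidHom).subgroupOf M) :=
    (hP.map _).comap_of_injective M.subtype M.subtype_injective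
  have hle : (UU U hcomm).map (MulAut.conj h).toMonoidHom ≤ M := by
    rintro _ ⟨u, hu, rfl⟩
    exact hN.conj_mem u (hUM hu) h
  have hcard : Nat.card (((UU U hcomm).map (MulAut.conj h).toMonoidHom).subgroupOf M) =
      Nat.card ((UU U hcomm).subgroupOf M) := by
    rw [Nat.card_congr (Subgroup.subgroupOfEquivOfLe hle).toEquiv,
      Nat.card_congr (Subgroup.subgroupOfEquivOfLe hUM).toEquiv]
    exact Nat.card_congr ((UU U hcomm).equivMapOfInjective _ (MulAut.conj h).injective).toEquiv.symm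
  have hidx2 : ¬ p ∣ (((UU U hcomm).map (MulAut.conj h).toMonoidHom).subgroupOf M).index := by
    have h1 := ((UU U hcomm).subgroupOf M).card_mul_index
    have h2 := (((UU U hcomm).map (MulAut.conj h).toMonoidHom).subgroupOf M).card_mul_index
    rw [hcard, ← h1] at h2
    rw [Nat.eq_of_mul_eq_mul_left Nat.card_pos h2]
    exact hidx
  let P' : Sylow p M := hP2.toSylow hidx2
  obtain ⟨m, hm⟩ := MulAction.exists_smul_eq M P P'
  obtain ⟨e, he⟩ := exists_of_mem hcomm m.2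
  refine ⟨e, fun v => ?_⟩
  have hm2 : ∀ x : M, x ∈ (P' : Subgroup M) ↔ m⁻¹ * x * m ∈ (P : Subgroup M) := by
    intro x
    rw [← hm, Sylow.coe_subgroup_smul, Subgroup.mem_pointwise_smul_iff_inv_smul_mem]
    have h1 : (MulAut.conj m)⁻¹ • x = m⁻¹ * x * m := by
      rw [← map_inv]
      simp [MulAut.smul_def]
    rw [h1]
  have hP' : ∀ x : M, x ∈ (P' : Subgroup M) ↔ ∃ u ∈ UU U hcomm, h * u * h⁻¹ = x := by
    intro x
    change x ∈ (((UU U hcomm).map (MulAut.conj h).toMonoidHom).subgroupOf M) ↔ _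
    rw [Subgroup.mem_subgroupOf]
    rfl
  have hPm : ∀ x : M, x ∈ (P : Subgroup M) ↔ (x : H) ∈ UU U hcomm := fun x => Iff.rfl
  rw [he]
  constructor
  · intro h1 u hu
    have h2 : m * ⟨u, hUM hu⟩ * m⁻¹ ∈ (P' : Subgroup M) := by
      rw [hm2, hPm]
      have h3 : m⁻¹ * (m * ⟨u, hUM hu⟩ * m⁻¹) * m = ⟨u, hUM hu⟩ := by group
      rw [h3]
      exact hu
    obtain ⟨w, hw, h3⟩ := (hP' _).1 h2
    have h4 := h1 w hw
    rw [h3] at h4
    have h5 : (((m * ⟨u, hUM hu⟩ * m⁻¹ : M) : H)) = (m : H) * u * (m : H)⁻¹ := rfl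
    rw [h5, mul_smul, mul_smul] at h4
    have h6 := congrArg (fun w => (m : H)⁻¹ • w) h4
    simpa only [inv_smul_smul] using h6
  · intro h1 u hu
    have h2 : (⟨h * u * h⁻¹, hN.conj_mem u (hUM hu) h⟩ : M) ∈ (P' : Subgroup M) := (hP' _).2 ⟨u, hu, rfl⟩
    rw [hm2, hPm] at h2
    have h3 := h1 _ h2
    have h5 : ((m⁻¹ * ⟨h * u * h⁻¹, hN.conj_mem u (hUM hu) h⟩ * m : M) : H) = (m : H)⁻¹ * (h * u * h⁻¹) * m := rfl
    rw [h5, mul_smul, smul_inv_smul, mul_smul] at h3
    exact smul_left_cancel _ h3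

include hC in
theorem cover (hN : (⨆ i, E i : Subgroup H).Normal) (h : H) {v : V} (hv : v ∈ Fx V (UU U hcomm)) :
    ∃ u ∈ UU U hcomm, ∃ A ∈ Fintype.piFinset 𝒜, ∀ i, u⁻¹ • h • v ∈ A i := by
  obtain ⟨e, he⟩ := exists_conj (V := V) hcomm hC hN h
  have h1 := (he (h • v)).1 (fun u hu => by
    rw [← mul_smul, inv_mul_cancel_right, mul_smul, hv u hu])
  rw [mem_Fx_UU hcomm hC] at h1
  have h2 : ∀ i, ∃ u ∈ U i, ∃ A ∈ 𝒜 i, ∀ v, (e i : H)⁻¹ • v ∈ Fx V (U i) → u⁻¹ • v ∈ A :=
    fun i => (hC i).cov (e i) (e i).2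
  choose u hu A hA huA using h2
  refine ⟨ph hcomm fun i => ⟨u i, (hC i).le (hu i)⟩, (mem_UU hcomm).2 ⟨_, fun i => hu i, rfl⟩, A,
    Fintype.mem_piFinset.2 hA, fun i => ?_⟩
  have h3 := huA i (h • v) ((act hcomm e i (hC i).le).1 (h1 i))
  obtain ⟨g, hg, hgA⟩ := (hC i).mem (A i) (hA i)
  rw [hgA] at h3 ⊢
  obtain ⟨c, hc, hce⟩ := ph_eq hcomm (fun i => ⟨u i, (hC i).le (hu i)⟩) i
  rw [hce, mul_inv_rev, mul_smul]
  have hc' : ∀ x ∈ E i, x * c⁻¹ = c⁻¹ * x := by
    intro x hx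
    calc x * c⁻¹ = c⁻¹ * (c * x) * c⁻¹ := by group
      _ = c⁻¹ * (x * c) * c⁻¹ := by rw [hc x hx]
      _ = c⁻¹ * x := by group
  rw [smul_smul g⁻¹ c⁻¹, hc' _ (inv_mem hg), mul_smul]
  exact (cent_smul_mem (hC i).le hc').2 h3

include hC in
theorem card_inter {A : ι → AddSubgroup V} (hA : A ∈ Fintype.piFinset 𝒜) :
    Nat.card {w : V // ∀ i, w ∈ A i} = Nat.card (Fx V (UU U hcomm)) := by
  rw [Fintype.mem_piFinset] at hA
  have h2 : ∀ i, ∃ g : E i, ∀ v, v ∈ A i ↔ (g : H)⁻¹ • v ∈ Fx V (U i) := fun i => by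
    obtain ⟨g, hg, h⟩ := (hC i).mem (A i) (hA i)
    exact ⟨⟨g, hg⟩, h⟩
  choose g hg using h2
  have h3 : ∀ w, (∀ i, w ∈ A i) ↔ (ph hcomm g)⁻¹ • w ∈ Fx V (UU U hcomm) := by
    intro w
    rw [mem_Fx_UU hcomm hC]
    refine forall_congr' fun i => ?_
    rw [hg i, act hcomm g i (hC i).le]
  refine Nat.card_congr
    { toFun := fun w => ⟨(ph hcomm g)⁻¹ • w.1, (h3 _).1 w.2⟩
      invFun := fun w => ⟨ph hcomm g • w.1, (h3 _).2 (by rw [inv_smul_smul]; exact w.2)⟩
      left_inv := fun w => Subtype.ext (smul_inv_smul _ _)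
      right_inv := fun w => Subtype.ext (inv_smul_smul _ _) }

include hC in
/-- **representatives of the orbits on `v^H`** -/
theorem exists_finset [Finite V] (hN : (⨆ i, E i : Subgroup H).Normal) {v : V} (hv : v ∈ Fx V (UU U hcomm))
    (hv0 : v ≠ 0) : ∃ F : Finset V, F.card ≤ (∏ i, r i) * (Nat.card (Fx V (UU U hcomm)) - 1) ∧
      ∀ h : H, ∃ u ∈ UU U hcomm, u • h • v ∈ F := by
  classical
  let _ : Fintype V := Fintype.ofFinite V
  refine ⟨(Fintype.piFinset 𝒜).biUnion fun A => Finset.univ.filter fun w => w ≠ 0 ∧ ∀ i, w ∈ A i, ?_, ?_⟩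
  · have h1 : ∀ A ∈ Fintype.piFinset 𝒜, (Finset.univ.filter fun w : V => w ≠ 0 ∧ ∀ i, w ∈ A i).card ≤
        Nat.card (Fx V (UU U hcomm)) - 1 := by
      intro A hA
      rw [← card_inter hcomm hC hA]
      have h2 : (Finset.univ.filter fun w : V => w ≠ 0 ∧ ∀ i, w ∈ A i) =
          (Finset.univ.filter fun w : V => ∀ i, w ∈ A i).erase 0 := by
        ext w
        simp only [Finset.mem_filter, Finset.mem_univ, true_and, Finset.mem_erase]
      rw [h2, Finset.card_erase_of_mem (by simp [AddSubgroup.zero_mem])]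
      refine Nat.sub_le_sub_right (le_of_eq ?_) 1
      rw [Nat.card_eq_fintype_card, Fintype.card_subtype]
    refine Finset.card_biUnion_le.trans ((Finset.sum_le_sum h1).trans ?_)
    rw [Finset.sum_const, smul_eq_mul, Fintype.card_piFinset]
    exact Nat.mul_le_mul_right _ (Finset.prod_le_prod' fun i _ => (hC i).card)
  · intro h
    obtain ⟨u, hu, A, hA, hw⟩ := cover hcomm hC hN h hv
    refine ⟨u⁻¹, inv_mem hu, ?_⟩
    rw [Finset.mem_biUnion]
    refine ⟨A, hA, ?_⟩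
    rw [Finset.mem_filter]
    refine ⟨Finset.mem_univ _, ?_, hw⟩
    rw [ne_eq, smul_eq_zero_iff_eq, smul_eq_zero_iff_eq]
    exact hv0

end prod

end Cfsg.Agent.H570.Bn.Abs
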