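import Mathlib

/-!
# The components of a perfect group with `M / Z(M) ≅ T^s` (helper570)

`exists_comps` : `M = ∏ E i`, the `E i` perfect, commuting, `E i / (central) ≅ T`.
-/

set_option autoImplicit false
set_option linter.unusedSectionVars false

namespace Cfsg.Agent.H570.Bn.Cmps

open Subgroup
open scoped commutatorElement

theorem commutator_eq_top_of_simple {T : Type*} [Group T] [IsSimpleGroup T] (hT : ¬ IsMulCommutative T) :
    commutator T = ⊤ := by
  rcases (inferInstance : (commutator T).Normal).eq_bot_or_eq_top with h | h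
  · exfalso
    apply hT
    refine ⟨⟨fun a b => ?_⟩⟩
    have h1 : ⁅a, b⁆ ∈ commutator T := by
      rw [_root_.commutator_def]
      exact commutator_mem_commutator trivial trivial
    rw [h, mem_bot, commutatorElement_eq_one_iff_mul_comm] at h1
    exact h1
  · exact h

section inner

variable {G : Type*} [Group G] {T : Type*} [Group T] {ι : Type*} [DecidableEq ι] (f : G →* (ι → T))

/-- the preimage of a factor -/
def Gi (i : ι) : Subgroup G where
  carrier := {x | ∀ j, j ≠ i → f x j = 1}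
  one_mem' := fun j _ => by rw [map_one]; rfl
  mul_mem' := fun {a b} ha hb j hj => by rw [map_mul, Pi.mul_apply, ha j hj, hb j hj, one_mul]
  inv_mem' := fun {a} ha j hj => by rw [map_inv, Pi.inv_apply, ha j hj, inv_one]

theorem mem_Gi {i : ι} {x : G} : x ∈ Gi f i ↔ ∀ j, j ≠ i → f x j = 1 := Iff.rfl

variable (hk : f.ker ≤ center G) (hs : Function.Surjective f)

include hk in
theorem comm_le {i j : ι} (hij : i ≠ j) : ⁅Gi f i, Gi f j⁆ ≤ center G := by
  rw [commutator_le]
  intro x hx y hy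
  apply hk
  rw [MonoidHom.mem_ker, map_commutatorElement]
  funext k
  rw [Pi.one_apply]
  by_cases h : k = i
  · have h1 : f y k = 1 := hy k (h ▸ hij)
    change ⁅f x k, f y k⁆ = 1
    rw [h1, commutatorElement_one_right]
  · have h1 : f x k = 1 := hx k h
    change ⁅f x k, f y k⁆ = 1
    rw [h1, commutatorElement_one_left]

include hk in
theorem comm_bot {i j : ι} (hij : i ≠ j) : ⁅⁅Gi f i, Gi f i⁆, Gi f j⁆ = ⊥ := by
  have h1 : ∀ K : Subgroup G, ⁅(center G), K⁆ = ⊥ := by
    intro K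
    rw [commutator_eq_bot_iff_le_centralizer]
    intro x hx
    rw [mem_centralizer_iff]
    intro y _
    exact mem_center_iff.1 hx y
  refine commutator_commutator_eq_bot_of_rotate ?_ ?_
  · rw [eq_bot_iff]
    exact (commutator_mono (comm_le f hk hij) le_rfl).trans_eq (h1 _)
  · rw [eq_bot_iff]
    exact (commutator_mono (comm_le f hk hij.symm) le_rfl).trans_eq (h1 _)

/-- the component -/
def Ei (i : ι) : Subgroup G := ⁅Gi f i, Gi f i⁆

theorem Ei_le (i : ι) : Ei f i ≤ Gi f i := by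
  unfold Ei
  rw [commutator_le]
  intro x hx y hy
  exact mul_mem (mul_mem (mul_mem hx hy) (inv_mem hx)) (inv_mem hy)

include hk in
theorem commute {i j : ι} (hij : i ≠ j) {x y : G} (hx : x ∈ Ei f i) (hy : y ∈ Ei f j) : Commute x y := by
  have h1 := comm_bot f hk hij
  rw [commutator_eq_bot_iff_le_centralizer] at h1
  have h2 := mem_centralizer_iff.1 (h1 hx) y (Ei_le f j hy)
  exact h2.symm

include hs in
theorem map_Gi (i : ι) : (Gi f i).map f = (MonoidHom.mulSingle (fun _ => T) i).range := by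
  ext t
  constructor
  · rintro ⟨x, hx, rfl⟩
    refine ⟨f x i, ?_⟩
    funext j
    by_cases h : j = i
    · subst h
      simp
    · simp only [MonoidHom.mulSingle_apply, Pi.mulSingle_eq_of_ne h]
      exact (hx j h).symm
  · rintro ⟨t, rfl⟩
    obtain ⟨x, hx⟩ := hs (Pi.mulSingle i t)
    refine ⟨x, fun j hj => ?_, hx⟩
    rw [hx, Pi.mulSingle_eq_of_ne hj]

variable [IsSimpleGroup T] (hT : ¬ IsMulCommutative T)

include hs hT in
theorem map_Ei (i : ι) : (Ei f i).map f = (MonoidHom.mulSingle (fun _ => T) i).range := by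
  unfold Ei
  rw [map_commutator, map_Gi f hs, MonoidHom.range_eq_map, ← map_commutator]
  congr 1
  exact commutator_eq_top_of_simple hT

include hs hT hk in
theorem exists_mul {i : ι} {x : G} (hx : x ∈ Gi f i) : ∃ e ∈ Ei f i, ∃ z ∈ center G, x = e * z := by
  have h1 : f x ∈ (Ei f i).map f := by
    rw [map_Ei f hs hT, ← map_Gi f hs]
    exact ⟨x, hx, rfl⟩
  obtain ⟨e, he, h⟩ := h1
  refine ⟨e, he, e⁻¹ * x, hk ?_, by group⟩
  rw [MonoidHom.mem_ker, map_mul, map_inv, h, inv_mul_cancel]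

theorem comm_mul_center {G : Type*} [Group G] {a b z w : G} (hz : z ∈ center G) (hw : w ∈ center G) :
    ⁅a * z, b * w⁆ = ⁅a, b⁆ := by
  have hz' := mem_center_iff.1 hz
  have hw' := mem_center_iff.1 hw
  rw [commutatorElement_def, commutatorElement_def]
  calc a * z * (b * w) * (a * z)⁻¹ * (b * w)⁻¹
      = a * (z * b) * w * (z⁻¹ * a⁻¹) * (w⁻¹ * b⁻¹) := by group
    _ = a * b * (z * w) * z⁻¹ * a⁻¹ * w⁻¹ * b⁻¹ := by rw [← hz' b]; group
    _ = a * b * (w * a⁻¹) * w⁻¹ * b⁻¹ := by rw [← hz' w]; group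
    _ = a * b * a⁻¹ * b⁻¹ := by rw [← hw' a⁻¹]; group

include hs hT hk in
theorem perfect (i : ι) : ⁅Ei f i, Ei f i⁆ = Ei f i := by
  refine le_antisymm ?_ ?_
  · rw [commutator_le]
    intro x hx y hy
    exact mul_mem (mul_mem (mul_mem hx hy) (inv_mem hx)) (inv_mem hy)
  · conv_lhs => unfold Ei
    rw [commutator_le]
    intro x hx y hy
    obtain ⟨e, he, z, hz, rfl⟩ := exists_mul f hk hs hT hx
    obtain ⟨e', he', z', hz', rfl⟩ := exists_mul f hk hs hT hy
    rw [comm_mul_center hz hz']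
    exact commutator_mem_commutator he he'

include hs hT hk in
theorem iSup_eq [Finite ι] (hG : commutator G = ⊤) : (⨆ i, Ei f i) = ⊤ := by
  have h1 : (⨆ i, Ei f i).map f = ⊤ := by
    rw [eq_top_iff]
    intro t _
    refine pi_mem_of_mulSingle_mem t fun i => ?_
    have h2 : Pi.mulSingle i (t i) ∈ (Ei f i).map f := by
      rw [map_Ei f hs hT]
      exact ⟨t i, rfl⟩
    exact map_mono (le_iSup _ i) h2
  have h2 : ∀ x : G, ∃ e ∈ ⨆ i, Ei f i, ∃ z ∈ center G, x = e * z := by
    intro x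
    have h3 : f x ∈ (⨆ i, Ei f i).map f := by rw [h1]; trivial
    obtain ⟨e, he, h⟩ := h3
    refine ⟨e, he, e⁻¹ * x, hk ?_, by group⟩
    rw [MonoidHom.mem_ker, map_mul, map_inv, h, inv_mul_cancel]
  rw [eq_top_iff, ← hG, _root_.commutator_def, commutator_le]
  intro x _ y _
  obtain ⟨e, he, z, hz, rfl⟩ := h2 x
  obtain ⟨e', he', z', hz', rfl⟩ := h2 y
  rw [comm_mul_center hz hz']
  exact mul_mem (mul_mem (mul_mem he he') (inv_mem he)) (inv_mem he')

end inner

/-- **the components** -/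
theorem exists_comps {H : Type*} [Group H] (M : Subgroup H) (hM : commutator M = ⊤) {T : Type*} [Group T]
    [IsSimpleGroup T] (hT : ¬ IsMulCommutative T) {s : ℕ} (e : M ⧸ center M ≃* (Fin s → T)) :
    ∃ E : Fin s → Subgroup H, (∀ i, E i ≤ M) ∧
      (Pairwise fun i j => ∀ x y : H, x ∈ E i → y ∈ E j → Commute x y) ∧ (⨆ i, E i) = M ∧
      (∀ i, ⁅E i, E i⁆ = E i) ∧
      ∀ i, ∃ φ : E i →* T, Function.Surjective φ ∧ ∀ x : E i, φ x = 1 → ∃ z : M, z ∈ center M ∧ (z : H) = x := by
  classical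
  set f : M →* (Fin s → T) := e.toMonoidHom.comp (QuotientGroup.mk' (center M)) with hf
  have hs : Function.Surjective f := e.surjective.comp (QuotientGroup.mk'_surjective _)
  have hk : f.ker ≤ center M := by
    intro x hx
    rw [MonoidHom.mem_ker] at hx
    have h1 : e (x : M ⧸ center M) = 1 := hx
    rw [map_eq_one_iff e e.injective] at h1
    exact (QuotientGroup.eq_one_iff x).1 h1
  refine ⟨fun i => (Ei f i).map M.subtype, fun i => map_subtype_le _, ?_, ?_, ?_, ?_⟩
  · rintro i j hij _ _ ⟨x, hx, rfl⟩ ⟨y, hy, rfl⟩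
    exact (commute f hk hij hx hy).map M.subtype
  · rw [← Subgroup.map_iSup, iSup_eq f hk hs hT hM, ← MonoidHom.range_eq_map, range_subtype]
  · intro i
    rw [← map_commutator, perfect f hk hs hT]
  · intro i
    have h1 : ∀ x : (Ei f i).map M.subtype, (x : H) ∈ M := fun x => map_subtype_le _ x.2
    have h2 : ∀ x : (Ei f i).map M.subtype, (⟨x, h1 x⟩ : M) ∈ Ei f i := by
      rintro ⟨_, x, hx, rfl⟩
      exact hx
    refine ⟨(Pi.evalMonoidHom (fun _ : Fin s => T) i).comp (f.comp (inclusion (map_subtype_le (Ei f i)))), ?_, ?_⟩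
    · intro t
      have h3 : Pi.mulSingle i t ∈ (Ei f i).map f := by
        rw [map_Ei f hs hT]
        exact ⟨t, rfl⟩
      obtain ⟨x, hx, hxt⟩ := h3
      refine ⟨⟨x, x, hx, rfl⟩, ?_⟩
      change f x i = t
      rw [hxt, Pi.mulSingle_eq_same]
    · intro x hx
      refine ⟨⟨x, h1 x⟩, hk ?_, rfl⟩
      rw [MonoidHom.mem_ker]
      funext j
      by_cases h : j = i
      · subst h
        exact hx
      · exact Ei_le f i (h2 x) j h

end Cfsg.Agent.H570.Bn.Cmps
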