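import Cfsg.Agent.H570.Bn.Main
import Cfsg.Agent.H570.Bn.Lp
import Cfsg.Agent.H902.Af.Crit

/-!
# `BNCase` of S5731, final form (helper570)

`bnCase` : `LP p T` = `T` has a name of Lie type in characteristic `p`.
-/

set_option autoImplicit false

namespace Cfsg.Agent.H570.Bn.Fin

open Cfsg.Agent.H192.Af Cfsg.Agent.OrdDiv Cfsg.Agent.H436 Cfsg.Agent.H915.GN Cfsg.Agent.FixBN

universe u v

theorem crit : Main.Crit.{u, v} := fun _ _ _ _ _ _ _ _ hw h => Cfsg.Agent.H902.Af.tgt_of_rnk' hw h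

/-- **`BNCase` for every predicate implying a split (B,N)-pair of characteristic `p`** -/
theorem bnCase_of_split {LP : ∀ (_ : ℕ) (T : Type v) [Group T], Prop}
    (hLP : ∀ (p : ℕ) (T : Type v) [Group T] [Finite T] [IsSimpleGroup T], p.Prime → ¬ IsMulCommutative T → LP p T →
      HasSplit p T) : BNCase.{u, v} LP := Main.bnCase_of crit hLP

/-- **`BNCase`** -/
theorem bnCase : BNCase.{u, v} fun p T _ => ∃ g : Grp, Cond g ∧ HasChar p g ∧ Real g T :=
  bnCase_of_split fun _ _ _ _ _ hp _ ⟨_, h1, h2, h3⟩ => Lp.hasSplit_of_real hp h1 h2 h3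

/-- `LP p T → p ∣ |T|` -/
theorem dvd_card {p : ℕ} (hp : p.Prime) {T : Type v} [Group T] [Finite T] [IsSimpleGroup T]
    (h : ∃ g : Grp, Cond g ∧ HasChar p g ∧ Real g T) : p ∣ Nat.card T := by
  have : Fact p.Prime := ⟨hp⟩
  obtain ⟨g, h1, h2, h3⟩ := h
  exact Cfsg.Agent.H690.LieGood.dvd_card_of_hasSplit (Lp.hasSplit_of_real hp h1 h2 h3)

end Cfsg.Agent.H570.Bn.Fin
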