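import Cfsg.Agent.H570.Bn.Hom
import Cfsg.Agent.H570.Bn.Cmps

/-!
# One component with `|C_V(U)| ^ 2 = |V|` (helper570)

`central_of_half` : an element with more than `√|V|` fixed vectors centralises `M`.
-/

set_option autoImplicit false
set_option linter.unusedSectionVars false

namespace Cfsg.Agent.H570.Bn.Half

open Cfsg.Agent.H192.Af Cfsg.Agent.H570.Bn.Mk Cfsg.Agent.H570.Bn.Abs Cfsg.Agent.H570.Bn.Cmps Subgroup
open scoped commutatorElement

universe u v w

theorem exists_common {V : Type w} [AddCommGroup V] [Finite V] (A B : AddSubgroup V)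
    (h : Nat.card V < Nat.card A * Nat.card B) : ∃ x : V, x ≠ 0 ∧ x ∈ A ∧ x ∈ B := by
  classical
  by_contra hcon
  push Not at hcon
  have hinj : Function.Injective (fun a : A × B => (a.1 : V) - (a.2 : V)) := by
    rintro ⟨a, b⟩ ⟨a', b'⟩ hab
    have h1 : (a : V) - (b : V) = (a' : V) - (b' : V) := hab
    have h2 : (a : V) - (a' : V) = (b : V) - (b' : V) := by
      rw [sub_eq_sub_iff_add_eq_add] at h1 ⊢
      rw [h1]; exact add_comm _ _
    have h3 : (a : V) - (a' : V) = 0 := by
      by_contra h0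
      exact hcon _ h0 (A.sub_mem a.2 a'.2) (by rw [h2]; exact B.sub_mem b.2 b'.2)
    have h4 : (a : V) = a' := sub_eq_zero.1 h3
    have h5 : (b : V) = b' := by
      rw [h3] at h2; exact sub_eq_zero.1 h2.symm
    exact Prod.ext (Subtype.ext h4) (Subtype.ext h5)
  have h1 := Nat.card_le_card_of_injective _ hinj
  rw [Nat.card_prod] at h1
  exact absurd h (not_lt.2 h1)

section quasi

variable {G : Type*} [Group G] (hG : commutator G = ⊤)

include hG in
/-- a proper normal subgroup of a perfect central extension of a simple group is central -/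
theorem le_center_of_ne_top {T : Type*} [Group T] [IsSimpleGroup T] (e : G ⧸ center G ≃* T) (K : Subgroup G)
    [K.Normal] (hK : K ≠ ⊤) : K ≤ center G := by
  have h1 : ((K.map (QuotientGroup.mk' (center G))).map e.toMonoidHom).Normal :=
    (Normal.map (Normal.map ‹_› _ (QuotientGroup.mk'_surjective _)) _ e.surjective)
  rcases h1.eq_bot_or_eq_top with h2 | h2
  · intro x hx
    have h3 : e (x : G ⧸ center G) ∈ (K.map (QuotientGroup.mk' (center G))).map e.toMonoidHom :=
      ⟨_, ⟨x, hx, rfl⟩, rfl⟩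
    rw [h2, mem_bot, map_eq_one_iff e e.injective] at h3
    exact (QuotientGroup.eq_one_iff x).1 h3
  · exfalso
    apply hK
    have h3 : ∀ x : G, ∃ k ∈ K, ∃ z ∈ center G, x = k * z := by
      intro x
      have h4 : e (x : G ⧸ center G) ∈ (K.map (QuotientGroup.mk' (center G))).map e.toMonoidHom := by
        rw [h2]; trivial
      obtain ⟨_, ⟨k, hk, rfl⟩, h⟩ := h4
      have h5 : (k : G ⧸ center G) = (x : G ⧸ center G) := e.injective h
      exact ⟨k, hk, k⁻¹ * x, QuotientGroup.eq.1 h5, by group⟩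
    rw [eq_top_iff, ← hG, _root_.commutator_def, commutator_le]
    intro x _ y _
    obtain ⟨a, ha, z, hz, rfl⟩ := h3 x
    obtain ⟨b, hb, z', hz', rfl⟩ := h3 y
    rw [comm_mul_center hz hz']
    exact mul_mem (mul_mem (mul_mem ha hb) (inv_mem ha)) (inv_mem hb)

end quasi

/-- an automorphism inducing the identity modulo the centre of a perfect group is the identity -/
theorem centralizes_of_mod {H : Type*} [Group H] {M : Subgroup H} [M.Normal] (hM : commutator M = ⊤) (h : H)
    (hc : ∀ x : M, ∀ m ∈ M, m * (h * x * h⁻¹ * (x : H)⁻¹) = (h * x * h⁻¹ * (x : H)⁻¹) * m) :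
    ∀ x ∈ M, h * x = x * h := by
  have hmem : ∀ x : M, h * x * h⁻¹ * (x : H)⁻¹ ∈ M := fun x =>
    mul_mem ((inferInstance : M.Normal).conj_mem x x.2 h) (inv_mem x.2)
  let φ : M →* center M :=
    { toFun := fun x => ⟨⟨h * x * h⁻¹ * (x : H)⁻¹, hmem x⟩, by
        rw [mem_center_iff]
        intro m
        exact Subtype.ext (hc x m m.2)⟩
      map_one' := by
        refine Subtype.ext (Subtype.ext ?_)
        change h * ((1 : M) : H) * h⁻¹ * ((1 : M) : H)⁻¹ = 1
        rw [coe_one]; group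
      map_mul' := by
        intro x y
        refine Subtype.ext (Subtype.ext ?_)
        change h * ((x * y : M) : H) * h⁻¹ * ((x * y : M) : H)⁻¹ =
          (h * x * h⁻¹ * (x : H)⁻¹) * (h * y * h⁻¹ * (y : H)⁻¹)
        rw [coe_mul]
        have h1 := hc y (x : H)⁻¹ (inv_mem x.2)
        calc h * ((x : H) * y) * h⁻¹ * ((x : H) * y)⁻¹
            = (h * x * h⁻¹) * ((h * y * h⁻¹ * (y : H)⁻¹) * (x : H)⁻¹) := by group
          _ = (h * x * h⁻¹) * ((x : H)⁻¹ * (h * y * h⁻¹ * (y : H)⁻¹)) := by rw [h1]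
          _ = _ := by group }
  have h1 : φ.ker = ⊤ := by
    rw [eq_top_iff, ← hM, _root_.commutator_def, commutator_le]
    intro x _ y _
    rw [MonoidHom.mem_ker, map_commutatorElement, commutatorElement_eq_one_iff_mul_comm]
    exact Subtype.ext (mem_center_iff.1 (φ y).2 (φ x : M))
  intro x hx
  have h2 : (⟨x, hx⟩ : M) ∈ φ.ker := by rw [h1]; trivial
  rw [MonoidHom.mem_ker] at h2
  have h3 : h * x * h⁻¹ * x⁻¹ = 1 := congrArg (fun z : center M => ((z : M) : H)) h2
  calc h * x = (h * x * h⁻¹ * x⁻¹) * (x * h) := by group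
    _ = x * h := by rw [h3, one_mul]

variable {V : Type u} [AddCommGroup V] [Finite V] {H : Type v} [Group H] [Finite H] [DistribMulAction H V]

/-- **one component, `|C_V(U)| ^ 2 = |V|`** -/
theorem central_of_half {p : ℕ} {M : Subgroup H} [M.Normal] (hM : commutator M = ⊤) {T : Type*} [Group T]
    [IsSimpleGroup T] (e : M ⧸ center M ≃* T) {U : Subgroup H} {𝒜 : Finset (AddSubgroup V)}
    (C : Comp p M U 2 𝒜) (D : Disj M U V) (hf : 2 ≤ Nat.card (Fx V U)) (hsq : Nat.card (Fx V U) ^ 2 = Nat.card V)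
    (hconj : ∀ h : H, ∃ e ∈ M, ∀ v : V, (∀ u ∈ U, (h * u * h⁻¹) • v = v) ↔ e⁻¹ • v ∈ Fx V U) {h : H}
    (hh : Nat.card V < fixc V h ^ 2) : ∀ x ∈ M, h * x = x * h := by
  -- `h • D_g = D_g` for all `g ∈ M`
  have key : ∀ g ∈ M, ∀ v : V, g⁻¹ • v ∈ Fx V U ↔ g⁻¹ • h⁻¹ • v ∈ Fx V U := by
    intro g hg
    obtain ⟨e, he, hev⟩ := hconj h
    -- `h D_g = D_{g'}`, `g' = h g h⁻¹ e`
    have h1 : ∀ v : V, g⁻¹ • h⁻¹ • v ∈ Fx V U ↔ (h * g * h⁻¹ * e)⁻¹ • v ∈ Fx V U := by
      intro v
      have h2 := hev ((h * g * h⁻¹)⁻¹ • v)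
      have h3 : (∀ u ∈ U, (h * u * h⁻¹) • (h * g * h⁻¹)⁻¹ • v = (h * g * h⁻¹)⁻¹ • v) ↔ g⁻¹ • h⁻¹ • v ∈ Fx V U := by
        refine forall₂_congr fun u hu => ?_
        have h4 : (h * u * h⁻¹) • (h * g * h⁻¹)⁻¹ • v = h • u • g⁻¹ • h⁻¹ • v := by
          simp only [smul_smul]
          congr 1
          group
        have h5 : (h * g * h⁻¹)⁻¹ • v = h • g⁻¹ • h⁻¹ • v := by
          simp only [smul_smul]
          congr 1
          group
        rw [h4, h5]
        exact ⟨fun h6 => smul_left_cancel h h6, fun h6 => congrArg (fun w => h • w) h6⟩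
      rw [← h3, h2, mul_inv_rev (h * g * h⁻¹) e, mul_smul]
    have hg' : h * g * h⁻¹ * e ∈ M := mul_mem ((inferInstance : M.Normal).conj_mem g hg h) he
    -- a common vector
    let A : AddSubgroup V :=
      { carrier := {w | h • w = w}
        zero_mem' := smul_zero h
        add_mem' := fun {a b} ha hb => by
          change h • (a + b) = a + b
          rw [smul_add, ha, hb]
        neg_mem' := fun {a} ha => by
          change h • (-a) = -a
          rw [smul_neg, ha] }
    have hA : Nat.card A = fixc V h := rfl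
    let B : AddSubgroup V :=
      { carrier := {w | g⁻¹ • w ∈ Fx V U}
        zero_mem' := by
          change g⁻¹ • (0 : V) ∈ Fx V U
          rw [smul_zero]
          exact (Fx V U).zero_mem
        add_mem' := fun {a b} ha hb => by
          change g⁻¹ • (a + b) ∈ Fx V U
          rw [smul_add]
          exact (Fx V U).add_mem ha hb
        neg_mem' := fun {a} ha => by
          change g⁻¹ • (-a) ∈ Fx V U
          rw [smul_neg]
          exact (Fx V U).neg_mem ha }
    have hB : Nat.card B = Nat.card (Fx V U) := by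
      refine Nat.card_congr
        { toFun := fun w => ⟨g⁻¹ • w.1, w.2⟩
          invFun := fun w => ⟨g • w.1, by
            change g⁻¹ • g • w.1 ∈ Fx V U
            rw [inv_smul_smul]
            exact w.2⟩
          left_inv := fun w => Subtype.ext (smul_inv_smul _ _)
          right_inv := fun w => Subtype.ext (inv_smul_smul _ _) }
    obtain ⟨w, hw0, hwA, hwB⟩ := exists_common A B (by
      rw [hA, hB]
      have h3 : Nat.card (Fx V U) < fixc V h := by
        rw [← hsq] at hh
        exact lt_of_pow_lt_pow_left₀ 2 (Nat.zero_le _) hh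
      have h4 : 0 < Nat.card (Fx V U) := by omega
      nlinarith)
    have hwA' : h⁻¹ • w = w := by
      rw [inv_smul_eq_iff]
      exact (show h • w = w from hwA).symm
    have hw2 : (h * g * h⁻¹ * e)⁻¹ • w ∈ Fx V U := by
      rw [← h1, hwA']
      exact hwB
    rcases D g hg _ hg' with h3 | h3
    · intro v
      rw [h1, h3]
    · exact absurd (h3 w hwB hw2) hw0
  -- the kernel
  let K : Subgroup M :=
    { carrier := {k | ∀ g ∈ M, ∀ v : V, g⁻¹ • v ∈ Fx V U ↔ g⁻¹ • (k : H)⁻¹ • v ∈ Fx V U}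
      one_mem' := by
        intro g _ v
        rw [coe_one, inv_one, one_smul]
      mul_mem' := by
        intro a b ha hb g hg v
        rw [ha g hg v, hb g hg ((a : H)⁻¹ • v), coe_mul, mul_inv_rev, mul_smul]
      inv_mem' := by
        intro a ha g hg v
        have h1 := ha g hg ((a : H) • v)
        rw [inv_smul_smul] at h1
        rw [coe_inv, inv_inv]
        exact h1.symm }
  have hKn : K.Normal := by
    refine ⟨fun k hk m g hg v => ?_⟩
    have h1 := hk ((m : H)⁻¹ * g) (mul_mem (inv_mem m.2) hg) ((m : H)⁻¹ • v)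
    have h2 : ((m : H)⁻¹ * g)⁻¹ • (m : H)⁻¹ • v = g⁻¹ • v := by
      simp only [smul_smul]
      congr 1
      group
    have h3 : ((m : H)⁻¹ * g)⁻¹ • (k : H)⁻¹ • (m : H)⁻¹ • v = g⁻¹ • ((m * k * m⁻¹ : M) : H)⁻¹ • v := by
      simp only [smul_smul, coe_mul, coe_inv]
      congr 1
      group
    rw [h2, h3] at h1
    exact h1
  have hKt : K ≠ ⊤ := by
    intro hK
    have h1 := C.dim (Fx V U) (by
      intro g hg v hv
      have h2 : (⟨g, hg⟩ : M) ∈ K := by rw [hK]; trivial
      have h3 := (h2 1 (one_mem _) (g • v)).2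
      rw [inv_one, one_smul, one_smul] at h3
      apply h3
      change g⁻¹ • g • v ∈ Fx V U
      rw [inv_smul_smul]
      exact hv)
    rw [inf_idem] at h1
    nlinarith
  have hKc := le_center_of_ne_top hM e K hKt
  refine centralizes_of_mod hM h ?_
  intro x m hm
  have hmem : h * x * h⁻¹ * (x : H)⁻¹ ∈ M :=
    mul_mem ((inferInstance : M.Normal).conj_mem x x.2 h) (inv_mem x.2)
  have h1 : (⟨h * x * h⁻¹ * (x : H)⁻¹, hmem⟩ : M) ∈ K := by
    intro g hg v
    have e1 := key g hg v
    have e2 := key ((x : H)⁻¹ * g) (mul_mem (inv_mem x.2) hg) (h⁻¹⁻¹ • (x : H)⁻¹ • h⁻¹ • v)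
    have e3 : ((x : H)⁻¹ * g)⁻¹ • h⁻¹ • h⁻¹⁻¹ • (x : H)⁻¹ • h⁻¹ • v = g⁻¹ • h⁻¹ • v := by
      simp only [smul_smul]
      congr 1
      group
    have e4 : ((x : H)⁻¹ * g)⁻¹ • h⁻¹⁻¹ • (x : H)⁻¹ • h⁻¹ • v =
        g⁻¹ • ((⟨h * x * h⁻¹ * (x : H)⁻¹, hmem⟩ : M) : H)⁻¹ • v := by
      simp only [smul_smul]
      congr 1
      group
    rw [e3, e4] at e2
    rw [e1, e2]
  have h2 := mem_center_iff.1 (hKc h1) ⟨m, hm⟩
  exact congrArg Subtype.val h2

end Cfsg.Agent.H570.Bn.Half
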