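import Cfsg.Agent.H570.Bn.Mk

/-!
# Homogeneous modules of central products (helper570)

* `homog_of` : `V` homogeneous for `M = E C_M(E)`: homogeneous for `E`;
* `eq_one_of_homog` : `V` faithful and homogeneous for `M`: a central element of `M` of order `p` is trivial.
-/

set_option autoImplicit false
set_option linter.unusedSectionVars false

namespace Cfsg.Agent.H570.Bn.Hom

open Cfsg.Agent.H717.FieldOf Cfsg.Agent.H192.Af Cfsg.Agent.H570.Bn.Mk Cfsg.Agent.H570.Bn.One
open Cfsg.Agent.H570.Bn.Abs

universe u v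

variable {V : Type u} [AddCommGroup V] {H : Type v} [Group H] [DistribMulAction H V]

/-- maps commuting with `E` are linear -/
def mkEnd (E : Subgroup H) (f : V →+ V) (hf : ∀ g ∈ E, ∀ v, f (g • v) = g • f v) : Module.End (KA V E) V where
  toFun := f
  map_add' := f.map_add
  map_smul' := by
    intro c
    have hc : c ∈ Subring.closure (Set.range (oo V E)) := by rw [closure_oo]; trivial
    simp only [RingHom.id_apply]
    induction hc using Subring.closure_induction with
    | mem x hx =>
      obtain ⟨g, rfl⟩ := hx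
      exact hf g g.2
    | zero => intro v; rw [zero_smul, map_zero, zero_smul]
    | one => intro v; rw [one_smul, one_smul]
    | add a b _ _ ha hb => intro v; rw [add_smul, map_add, ha, hb, add_smul]
    | neg a _ ha => intro v; rw [neg_smul, map_neg, ha, neg_smul]
    | mul a b _ _ ha hb => intro v; rw [mul_smul, ha, hb, mul_smul]

theorem mkEnd_apply (E : Subgroup H) (f : V →+ V) (hf : ∀ g ∈ E, ∀ v, f (g • v) = g • f v) (v : V) :
    mkEnd E f hf v = f v := rfl

theorem end_smul (E : Subgroup H) (f : Module.End (KA V E) V) {g : H} (hg : g ∈ E) (v : V) :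
    f (g • v) = g • f v := f.map_smul (oo V E ⟨g, hg⟩) v

variable [Finite V]

/-- homogeneous modules of a central product -/
theorem homog_of {M E : Subgroup H} (hE : E ≤ M)
    (hC : ∀ m ∈ M, ∃ e ∈ E, ∃ c : H, (∀ x ∈ E, x * c = c * x) ∧ m = e * c) (h : Homog V M) : Homog V E := by
  rcases subsingleton_or_nontrivial V with hV | hV
  · exact ⟨(isSemisimpleModule_iff _ _).mpr Subsingleton.instComplementedLattice, IsIsotypic.of_subsingleton _ _⟩
  obtain ⟨hss, hiso⟩ := h
  obtain ⟨W, hW⟩ := IsAtomic.exists_atom (Submodule (KA V E) V)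
  have hWs : IsSimpleModule (KA V E) W := isSimpleModule_iff_isAtom.2 hW
  have hfull : ∀ f : V →+ V, (∀ g ∈ E, ∀ v, f (g • v) = g • f v) → ∀ v ∈ isotypicComponent (KA V E) V W,
      f v ∈ isotypicComponent (KA V E) V W := by
    intro f hf v hv
    exact LinearMap.le_comap_isotypicComponent W (mkEnd E f hf) hv
  have hinv : ∀ g : M, ∀ v ∈ (isotypicComponent (KA V E) V W).toAddSubgroup,
      oo V M g • v ∈ (isotypicComponent (KA V E) V W).toAddSubgroup := by
    rintro ⟨m, hm⟩ v hv
    obtain ⟨e, he, c, hc, rfl⟩ := hC m hm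
    have h1 : c • v ∈ isotypicComponent (KA V E) V W := by
      refine hfull (DistribSMul.toAddMonoidHom V c) ?_ v hv
      intro g hg w
      change c • g • w = g • c • w
      rw [smul_smul, smul_smul, hc g hg]
    have h2 : e • c • v ∈ isotypicComponent (KA V E) V W :=
      (isotypicComponent (KA V E) V W).smul_mem (oo V E ⟨e, he⟩) h1
    rw [smul_smul] at h2
    exact h2
  have h1 := (isIsotypic_iff_isFullyInvariant_imp_bot_or_top.1 hiso)
    (toSub (oo V M) (closure_oo M) _ hinv) (by
      intro f v hv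
      exact hfull f.toAddMonoidHom (fun g hg v => end_smul M f (hE hg) v) v hv)
  have h2 : isotypicComponent (KA V E) V W = ⊤ := by
    rcases h1 with h1 | h1
    · exfalso
      apply (bot_lt_isotypicComponent (R := KA V E) (M := V) W).ne'
      rw [eq_bot_iff]
      intro v hv
      have h3 : v ∈ toSub (oo V M) (closure_oo M) _ hinv := hv
      rw [h1, Submodule.mem_bot] at h3
      rw [Submodule.mem_bot, h3]
    · rw [eq_top_iff]
      intro v _
      have h3 : v ∈ toSub (oo V M) (closure_oo M) _ hinv := by rw [h1]; trivial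
      exact h3
  refine ⟨?_, (IsIsotypicOfType.of_isotypicComponent_eq_top h2).isIsotypic⟩
  have h3 : IsSemisimpleModule (KA V E) (isotypicComponent (KA V E) V W) := inferInstance
  rw [h2] at h3
  exact IsSemisimpleModule.congr Submodule.topEquiv.symm

/-- a non-trivial `p`-group of operators has non-zero fixed vectors -/
theorem exists_fixed {p : ℕ} [hp : Fact p.Prime] (hpV : ∀ w : V, p • w = 0) {U : Subgroup H} (hU : IsPGroup p U)
    {L : AddSubgroup V} (hL : L ≠ ⊥) (hLU : ∀ u ∈ U, ∀ v ∈ L, u • v ∈ L) : ∃ v ∈ L, v ≠ 0 ∧ ∀ u ∈ U, u • v = v := by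
  let _ : MulAction U L :=
    { smul := fun u v => ⟨(u : H) • (v : V), hLU u u.2 v v.2⟩
      one_smul := fun v => Subtype.ext (one_smul H (v : V))
      mul_smul := fun a b v => Subtype.ext (mul_smul (a : H) (b : H) (v : V)) }
  have h1 : p ∣ Nat.card L := by
    obtain ⟨v, hv0⟩ := AddSubgroup.ne_bot_iff_exists_ne_zero.1 hL
    have h2 : addOrderOf v = p := addOrderOf_eq_prime (Subtype.ext (hpV v)) hv0
    rw [← h2]
    exact addOrderOf_dvd_natCard _
  obtain ⟨b, hb, hne⟩ := hU.exists_fixed_point_of_prime_dvd_card_of_fixed_point L h1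
    (a := 0) (fun u => Subtype.ext (smul_zero (u : H)))
  refine ⟨b, b.2, fun h => hne (Subtype.ext h).symm, fun u hu => ?_⟩
  exact congrArg Subtype.val (hb ⟨u, hu⟩)

/-- **no central elements of order `p`** -/
theorem eq_one_of_homog [FaithfulSMul H V] {p : ℕ} [hp : Fact p.Prime] (hpV : ∀ w : V, p • w = 0) {M : Subgroup H}
    (h : Homog V M) {z : H} (hz : z ∈ M) (hc : ∀ m ∈ M, m * z = z * m) (hzp : z ^ p = 1) : z = 1 := by
  rcases subsingleton_or_nontrivial V with hV | hV
  · exact FaithfulSMul.eq_of_smul_eq_smul (α := V) fun v => Subsingleton.elim _ _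
  obtain ⟨hss, hiso⟩ := h
  have hinv : ∀ g : M, ∀ v ∈ Fx V (Subgroup.zpowers z), oo V M g • v ∈ Fx V (Subgroup.zpowers z) := by
    rintro g v hv u hu
    obtain ⟨k, rfl⟩ := hu
    have h1 : (g : H) * z ^ k = z ^ k * g := ((show Commute (g : H) z from hc g g.2).zpow_right k).eq
    change z ^ k • (g : H) • v = (g : H) • v
    rw [smul_smul, ← h1, mul_smul, hv _ ⟨k, rfl⟩]
  have hP : IsPGroup p (Subgroup.zpowers z) := by
    intro x
    refine ⟨1, Subtype.ext ?_⟩
    obtain ⟨k, hk⟩ := x.2
    change (x : H) ^ p ^ 1 = 1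
    have hk' : z ^ k = (x : H) := hk
    rw [pow_one, ← hk', ← zpow_natCast, ← zpow_mul, mul_comm, zpow_mul, zpow_natCast, hzp, one_zpow]
  have h1 := (isIsotypic_iff_isFullyInvariant_imp_bot_or_top.1 hiso)
    (toSub (oo V M) (closure_oo M) _ hinv) (by
      intro f v hv u hu
      have hu' : u ∈ M := (Subgroup.zpowers_le.2 hz) hu
      change u • f v = f v
      rw [← end_smul M f hu' v]
      congr 1
      exact hv u hu)
  have h2 : ∀ v : V, z • v = v := by
    rcases h1 with h1 | h1
    · exfalso
      obtain ⟨v, -, hv0, hv⟩ := exists_fixed hpV hP (L := (⊤ : AddSubgroup V)) top_ne_bot (fun _ _ _ _ => trivial)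
      have h3 : v ∈ toSub (oo V M) (closure_oo M) _ hinv := hv
      rw [h1, Submodule.mem_bot] at h3
      exact hv0 h3
    · intro v
      have h3 : v ∈ toSub (oo V M) (closure_oo M) _ hinv := by rw [h1]; trivial
      exact h3 z (Subgroup.mem_zpowers z)
  exact FaithfulSMul.eq_of_smul_eq_smul (α := V) fun v => by rw [h2, one_smul]

/-- the order of the centre is prime to `p` -/
theorem coprime_center [FaithfulSMul H V] [Finite H] {p : ℕ} [hp : Fact p.Prime] (hpV : ∀ w : V, p • w = 0)
    {M : Subgroup H} (h : Homog V M) : (Nat.card (Subgroup.center M)).Coprime p := by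
  rw [Nat.coprime_comm, hp.1.coprime_iff_not_dvd]
  intro hd
  obtain ⟨x, hx⟩ := exists_prime_orderOf_dvd_card' p hd
  have h1 : ((x : M) : H) = 1 := by
    refine eq_one_of_homog hpV h (x : M).2 ?_ ?_
    · intro m hm
      exact congrArg Subtype.val (Subgroup.mem_center_iff.1 x.2 ⟨m, hm⟩)
    · have h2 : x ^ p = 1 := by rw [← hx]; exact pow_orderOf_eq_one x
      exact congrArg (fun y : Subgroup.center M => ((y : M) : H)) h2
  have h2 : x = 1 := Subtype.ext (Subtype.ext h1)
  rw [h2, orderOf_one] at hx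
  exact hp.1.one_lt.ne hx

end Cfsg.Agent.H570.Bn.Hom
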