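import Cfsg.Agent.H570.Bn.One
import Cfsg.Agent.H570.Bn.Abs
import Cfsg.Agent.H192.Af.Defs
import Cfsg.Agent.H690.LieGood

/-!
# The component data of a normal-ish subgroup with a split (B,N)-pair (helper570)

`E ≤ H` with a system `S : Sys Δ E p`, `V` homogeneous for `E`: `exists_comp`.
-/

set_option autoImplicit false
set_option linter.unusedSectionVars false
set_option linter.style.haveILetI false

namespace Cfsg.Agent.H570.Bn.Mk

open Cfsg.Agent.Tits.Core Cfsg.Agent.Tits.Core.Bldg Cfsg.Agent.Tits.Exchange Cfsg.Agent.Tits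
open Cfsg.Agent.FixBN Cfsg.Agent.FixBN.Cox Cfsg.Agent.Omega.CR Cfsg.Agent.Omega.CR.Bl
open Cfsg.Agent.H905.DC Cfsg.Agent.H717.FieldOf Cfsg.Agent.H192.Af
open Cfsg.Agent.H570.Bn.One Cfsg.Agent.H570.Bn.Abs

universe u v

section ka

variable {V : Type u} [AddCommGroup V] {H : Type v} [Group H] [DistribMulAction H V] (E : Subgroup H)

variable (V) in
/-- the map to the ring generated by `E` -/
def oo : E →* KA V E where
  toFun g := ⟨dl V (g : H), dl_mem E g.2⟩
  map_one' := Subtype.ext (map_one (dl V))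
  map_mul' g h := Subtype.ext (map_mul (dl V) (g : H) h)

theorem oo_smul (g : E) (v : V) : oo V E g • v = (g : H) • v := rfl

theorem oo_smul_coe (L : Submodule (KA V E) V) (g : E) (v : L) : ((oo V E g • v : L) : V) = (g : H) • (v : V) := rfl

theorem closure_oo : Subring.closure (Set.range (oo V E)) = ⊤ := by
  rw [eq_top_iff]
  rintro ⟨x, hx⟩ -
  have hx' : x ∈ Subring.closure (dl V '' (E : Set H)) := hx
  induction hx' using Subring.closure_induction with
  | mem x hx' =>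
    obtain ⟨g, hg, rfl⟩ := hx'
    exact Subring.subset_closure ⟨⟨g, hg⟩, rfl⟩
  | zero => exact zero_mem _
  | one => exact one_mem _
  | add a b ha' hb' ha hb =>
    exact add_mem (ha ha') (hb hb')
  | neg a ha' ha => exact neg_mem (ha ha')
  | mul a b ha' hb' ha hb =>
    exact mul_mem (ha ha') (hb hb')

end ka

section comp

variable {I : Type*} {M : CoxeterMatrix I} {W : Type*} [Group W] {cs : CoxeterSystem M W} {C : Type*}
  {Δ : Bldg cs C} [F : OppRes.Cox cs] [Fintype C] (hth : Δ.Thick)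

variable {V : Type u} [AddCommGroup V] [Finite V] {H : Type v} [Group H] [Finite H] [DistribMulAction H V]
  [FaithfulSMul H V] (E : Subgroup H) [MulAction E C] {p : ℕ} [hp : Fact p.Prime] (S : Sys Δ E p)

theorem mem_Vx_iff [Module (ZMod p) V] (x : C) (v : V) :
    v ∈ Vx S (rp p (oo V E) V) x ↔ v ∈ Fx V ((S.U x).map E.subtype) := by
  constructor
  · rintro h _ ⟨u, hu, rfl⟩
    exact h u hu
  · intro h u hu
    exact h u ⟨u, hu, rfl⟩

theorem U_smul (g : E) (x : C) : S.U (g • x) = (S.U x).map (MulAut.conj g).toMonoidHom := by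
  ext y
  constructor
  · intro hy
    refine ⟨g⁻¹ * y * g, ?_, by simp [mul_assoc]⟩
    have := S.conj_mem_U hy g⁻¹
    rwa [inv_smul_smul, inv_inv] at this
  · rintro ⟨u, hu, rfl⟩
    exact S.conj_mem_U hu g

include hth in
theorem not_dvd_index (x : C) : ¬ p ∣ (S.U x).index := by
  obtain ⟨P⟩ : Nonempty (Sylow p E) := inferInstance
  obtain ⟨y, hy⟩ := S.exists_fix P P.isPGroup'
  have h1 : (P : Subgroup E) ≤ S.U y := S.max y P P.isPGroup' hy
  have h2 : S.U y = P := P.is_maximal' (S.isP y) h1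
  obtain ⟨g, rfl⟩ := Cfsg.Agent.Omega.ML.LieRow.exists_smul_top S hth x y
  have h3 : (S.U (g • x)).index = (S.U x).index := by
    rw [U_smul E S]
    exact Subgroup.index_map_equiv (S.U x) (MulAut.conj g)
  rw [← h3, h2]
  exact P.not_dvd_index

theorem mem_Vx_smul [Module (ZMod p) V] (g : E) (x : C) (v : V) :
    v ∈ Vx S (rp p (oo V E) V) (g • x) ↔ (g : H)⁻¹ • v ∈ Fx V ((S.U x).map E.subtype) := by
  rw [← mem_Vx_iff E S]
  constructor
  · intro h
    have := rho_mem_Vx S (rp p (oo V E) V) g⁻¹ h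
    rw [inv_smul_smul] at this
    exact this
  · intro h
    have := rho_mem_Vx S (rp p (oo V E) V) g h
    have h2 : rp p (oo V E) V g ((g : H)⁻¹ • v) = v := smul_inv_smul (g : H) v
    rwa [h2] at this

/-- the disjointness of the fixed spaces -/
def Disj (E U : Subgroup H) (V : Type u) [AddCommGroup V] [DistribMulAction H V] : Prop :=
  ∀ g ∈ E, ∀ g' ∈ E, (∀ v, g⁻¹ • v ∈ Fx V U ↔ g'⁻¹ • v ∈ Fx V U) ∨
    ∀ v, g⁻¹ • v ∈ Fx V U → g'⁻¹ • v ∈ Fx V U → v = 0

section aux

variable [Module (ZMod p) V] {T : Type*} [AddCommGroup T] [Module (ZMod p) T] [Module (KA V E) T]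
  [IsSimpleModule (KA V E) T] [Finite T]

include hth in
theorem dim_aux (L : Submodule (KA V E) V) [Module (ZMod p) L] {m : ℕ} (e' : L ≃ₗ[KA V E] (Fin m → T)) (b : C) :
    Nat.card (L.toAddSubgroup ⊓ Fx V ((S.U b).map E.subtype) : AddSubgroup V) ^ rr S (oo V E) T ≤ Nat.card L := by
  have h1 := pow_le_V S (oo V E) e' hth (closure_oo E) b
  have h2 : Nat.card (Vx S (rp p (oo V E) L) b) =
      Nat.card (L.toAddSubgroup ⊓ Fx V ((S.U b).map E.subtype) : AddSubgroup V) := by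
    refine Nat.card_congr
      { toFun := fun v => ⟨v.1.1, v.1.2, ?_⟩
        invFun := fun v => ⟨⟨v.1, v.2.1⟩, ?_⟩
        left_inv := fun v => rfl
        right_inv := fun v => rfl }
    · rintro _ ⟨u, hu, rfl⟩
      exact congrArg Subtype.val (v.2 u hu)
    · intro u hu
      exact Subtype.ext (v.2.2 u ⟨u, hu, rfl⟩)
  rw [h2] at h1
  exact h1

variable {n : ℕ} (e : V ≃ₗ[KA V E] (Fin n → T))

include e in
theorem exists_ne {u : E} (hu : u ≠ 1) : ∃ t : T, rp p (oo V E) T u t ≠ t := by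
  have h2 : (u : H) ≠ 1 := fun h => hu (Subtype.ext h)
  obtain ⟨v, hv⟩ : ∃ v : V, (u : H) • v ≠ v := by
    by_contra hcon
    push Not at hcon
    exact h2 (FaithfulSMul.eq_of_smul_eq_smul (α := V) fun v => by rw [hcon, one_smul])
  by_contra hcon
  push Not at hcon
  apply hv
  apply e.injective
  funext i
  have h3 := rp_pi (p := p) (oo V E) e u v i
  rw [hcon] at h3
  exact h3

include hth e in
theorem cov_aux (hn : 0 < n) (b : C) : ∃ 𝒜 : Finset (AddSubgroup V), 𝒜.card ≤ rr S (oo V E) T ∧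
    (∀ A ∈ 𝒜, ∃ g ∈ E, ∀ v, v ∈ A ↔ g⁻¹ • v ∈ Fx V ((S.U b).map E.subtype)) ∧
    (∀ g ∈ E, ∃ u ∈ (S.U b).map E.subtype, ∃ A ∈ 𝒜, ∀ v, g⁻¹ • v ∈ Fx V ((S.U b).map E.subtype) → u⁻¹ • v ∈ A) := by
  classical
  obtain ⟨𝒜, hA1, hA2, hA3⟩ := exists_reps S (oo V E) e hth (closure_oo E) hn b
  refine ⟨𝒜.image Submodule.toAddSubgroup, Finset.card_image_le.trans hA1, ?_, ?_⟩
  · intro A hA
    obtain ⟨A', hA', rfl⟩ := Finset.mem_image.1 hA
    obtain ⟨z, rfl⟩ := hA2 A' hA'
    obtain ⟨g, rfl⟩ := Cfsg.Agent.Omega.ML.LieRow.exists_smul_top S hth b z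
    exact ⟨g, g.2, fun v => mem_Vx_smul E S g b v⟩
  · intro g hg
    obtain ⟨u, hu, A, hA, h⟩ := hA3 ((⟨g, hg⟩ : E) • b)
    refine ⟨u, ⟨u, hu, rfl⟩, _, Finset.mem_image_of_mem _ hA, fun v hv => ?_⟩
    have h1 := (mem_Vx_smul E S ⟨g, hg⟩ b v).2 hv
    rw [h] at h1
    obtain ⟨a, ha, rfl⟩ := h1
    have h2 : (u : H)⁻¹ • (rp p (oo V E) V u a) = a := inv_smul_smul (u : H) a
    rw [h2]
    exact ha

include hth e in
theorem disj_aux (b : C) : Disj E ((S.U b).map E.subtype) V := by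
  intro g hg g' hg'
  rcases eq_or_disjoint_V S (oo V E) e hth (closure_oo E) ((⟨g, hg⟩ : E) • b) ((⟨g', hg'⟩ : E) • b) with h | h
  · left
    intro v
    rw [← mem_Vx_smul E S ⟨g, hg⟩ b v, ← mem_Vx_smul E S ⟨g', hg'⟩ b v, h]
  · right
    intro v hv hv'
    rw [Submodule.disjoint_def] at h
    exact h v ((mem_Vx_smul E S ⟨g, hg⟩ b v).2 hv) ((mem_Vx_smul E S ⟨g', hg'⟩ b v).2 hv')

end aux

include hth in
theorem exists_comp (hpV : ∀ w : V, p • w = 0) [Nontrivial V] (hH : Homog V E) (hpE : p ∣ Nat.card E) (b : C) :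
    ∃ (r : ℕ) (𝒜 : Finset (AddSubgroup V)), Comp p E ((S.U b).map E.subtype) r 𝒜 ∧
      Disj E ((S.U b).map E.subtype) V := by
  classical
  letI : Module (ZMod p) V := AddCommGroup.zmodModule hpV
  obtain ⟨hss, hiso⟩ := hH
  obtain ⟨T, hTat⟩ := IsAtomic.exists_atom (Submodule (KA V E) V)
  have hTs : IsSimpleModule (KA V E) T := isSimpleModule_iff_isAtom.2 hTat
  have hT : IsIsotypicOfType (KA V E) V T := hiso T
  letI : Module (ZMod p) T := AddCommGroup.zmodModule (fun t => Subtype.ext (hpV t))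
  have hfin : Module.Finite (KA V E) V := Module.Finite.of_finite
  obtain ⟨n, ⟨e⟩⟩ := hT.linearEquiv_fun
  have hn : 0 < n := by
    rcases Nat.eq_zero_or_pos n with rfl | h
    · exact absurd e.toEquiv.subsingleton (not_subsingleton V)
    · exact h
  obtain ⟨𝒜, hA1, hA2, hA3⟩ := cov_aux hth E S e hn b
  refine ⟨rr S (oo V E) T, 𝒜, ⟨?_, ?_, ?_, ?_, hA1, hA2, hA3, ?_⟩, disj_aux hth E S e b⟩
  · exact Subgroup.map_subtype_le _
  · exact (S.isP b).map _
  · have h1 : ((S.U b).map E.subtype).relIndex E = (S.U b).index := by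
      unfold Subgroup.relIndex
      congr 1
      ext x
      rw [Subgroup.mem_subgroupOf]
      constructor
      · rintro ⟨y, hy, h⟩
        rwa [← Subtype.ext h]
      · intro h
        exact ⟨x, h, rfl⟩
    rw [h1]
    exact not_dvd_index hth E S b
  · refine two_le S (oo V E) hth (closure_oo E) ?_
    have h1 : S.U b ≠ ⊥ := by
      intro h0
      apply not_dvd_index hth E S b
      rw [h0, Subgroup.index_bot]
      exact hpE
    obtain ⟨u, hu1⟩ := Subgroup.ne_bot_iff_exists_ne_one.1 h1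
    obtain ⟨t, ht⟩ := exists_ne (p := p) E e (u := u) fun h => hu1 (Subtype.ext h)
    exact ⟨b, u, u.2, t, ht⟩
  · intro V' hV'
    have hL : IsIsotypicOfType (KA V E) (toSub (oo V E) (closure_oo E) V' fun g v hv => hV' g g.2 v hv) T :=
      hT.of_injective (Submodule.subtype _) (Submodule.injective_subtype _)
    obtain ⟨m, ⟨e'⟩⟩ := hL.linearEquiv_fun
    letI : Module (ZMod p) (toSub (oo V E) (closure_oo E) V' fun g v hv => hV' g g.2 v hv) :=
      AddCommGroup.zmodModule (fun t => Subtype.ext (hpV t))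
    exact dim_aux hth E S _ e' b

end comp

end Cfsg.Agent.H570.Bn.Mk
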