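import Cfsg.Agent.H905.DCMain

/-!
# Fixed spaces of the Sylow groups of a group with a split (B,N)-pair on a homogeneous module (helper570)

`S : Sys Δ E p`, `V` a finite module of `A`, a ring generated by the image of `E`, semisimple and isotypic of type `T`; `D x = C_V(U_x)`,
`r = |W : W_J|` for `T`.

* `card_pow_le` : `|D x| ^ r ≤ |V|`;
* `eq_iff` : `D x = D y` for `V` iff for `T`; `eq_or_disjoint`;
* `exists_reps` : a set of at most `r` of the `D y` meets every `U_x`-orbit on `{D y}`;
* `two_le` : `2 ≤ r` if a `p`-element acts non-trivially.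
-/

set_option autoImplicit false
set_option linter.unusedSectionVars false

namespace Cfsg.Agent.H570.Bn.One

open Cfsg.Agent.Tits.Core Cfsg.Agent.Tits.Core.Bldg Cfsg.Agent.Tits.Exchange Cfsg.Agent.Tits
open Cfsg.Agent.FixBN Cfsg.Agent.FixBN.Cox Cfsg.Agent.Omega.CR Cfsg.Agent.Omega.CR.Bl
open Cfsg.Agent.H905.DC

variable {I : Type*} {M : CoxeterMatrix I} {W : Type*} [Group W] {cs : CoxeterSystem M W} {C : Type*}
  {Δ : Bldg cs C}

variable {E : Type*} [Group E] [Finite E] [MulAction E C] {p : ℕ} [hp : Fact p.Prime] (S : Sys Δ E p)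

variable {A : Type*} [Ring A] (o : E →* A)

section mod

variable (p)
variable (V : Type*) [AddCommGroup V] [Module (ZMod p) V] [Module A V]

/-- the representation attached to the module -/
noncomputable def rp : E →* Module.End (ZMod p) V where
  toFun g := AddMonoidHom.toZModLinearMap p (smulAddHom A V (o g))
  map_one' := by
    ext v
    change o 1 • v = v
    rw [map_one, one_smul]
  map_mul' g h := by
    ext v
    change o (g * h) • v = o g • o h • v
    rw [map_mul, mul_smul]

theorem rp_apply (g : E) (v : V) : rp p o V g v = o g • v := rfl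

variable {V}

/-- invariant subspaces are submodules -/
def toSub (ho : Subring.closure (Set.range o) = ⊤) (L : AddSubgroup V) (h : ∀ g, ∀ v ∈ L, o g • v ∈ L) :
    Submodule A V where
  carrier := L
  zero_mem' := L.zero_mem
  add_mem' := L.add_mem
  smul_mem' := by
    intro c v hv
    change c • v ∈ L
    have hc : c ∈ Subring.closure (Set.range o) := by rw [ho]; trivial
    have key : ∀ v ∈ L, c • v ∈ L := by
      induction hc using Subring.closure_induction with
      | mem x hx =>
        obtain ⟨g, rfl⟩ := hx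
        exact h g
      | zero => intro v _; rw [zero_smul]; exact L.zero_mem
      | one => intro v hv; rw [one_smul]; exact hv
      | add a b _ _ ha hb => intro v hv; rw [add_smul]; exact L.add_mem (ha v hv) (hb v hv)
      | neg a _ ha => intro v hv; rw [neg_smul]; exact L.neg_mem (ha v hv)
      | mul a b _ _ ha hb => intro v hv; rw [mul_smul]; exact ha _ (hb v hv)
    exact key v hv

theorem irr_of_simple (ho : Subring.closure (Set.range o) = ⊤) [IsSimpleModule A V] (L : Submodule (ZMod p) V)
    (h : Ivt (rp p o V) ⊤ L) : L = ⊥ ∨ L = ⊤ := by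
  rcases eq_bot_or_eq_top (toSub o ho L.toAddSubgroup fun g v hv => h g trivial v hv) with h1 | h1
  · left
    rw [eq_bot_iff]
    intro v hv
    have h2 : v ∈ toSub o ho L.toAddSubgroup fun g v hv => h g trivial v hv := hv
    rw [h1, Submodule.mem_bot] at h2
    rw [Submodule.mem_bot, h2]
  · right
    rw [eq_top_iff]
    intro v _
    have h2 : v ∈ toSub o ho L.toAddSubgroup fun g v hv => h g trivial v hv := by rw [h1]; trivial
    exact h2

end mod

section iso

variable {V T : Type*} [AddCommGroup V] [Module (ZMod p) V] [Module A V]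
  [AddCommGroup T] [Module (ZMod p) T] [Module A T]
  {n : ℕ} (e : V ≃ₗ[A] (Fin n → T))

theorem rp_pi (g : E) (v : V) (i : Fin n) : e (rp p o V g v) i = rp p o T g (e v i) := by
  rw [rp_apply, rp_apply, map_smul, Pi.smul_apply]

theorem mem_iff {x : C} {v : V} : v ∈ Vx S (rp p o V) x ↔ ∀ i, e v i ∈ Vx S (rp p o T) x := by
  constructor
  · intro h i u hu
    rw [← rp_pi o e, h u hu]
  · intro h u hu
    apply e.injective
    funext i
    rw [rp_pi o e]
    exact h i u hu

include e in
theorem eq_iff' (hn : 0 < n) {x y : C} : Vx S (rp p o V) x = Vx S (rp p o V) y ↔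
    Vx S (rp p o T) x = Vx S (rp p o T) y := by
  constructor
  · intro h
    ext t
    have h1 : ∀ z : C, e.symm (fun _ => t) ∈ Vx S (rp p o V) z ↔ t ∈ Vx S (rp p o T) z := by
      intro z
      rw [mem_iff S o e, e.apply_symm_apply]
      exact ⟨fun h => h ⟨0, hn⟩, fun h _ => h⟩
    rw [← h1, ← h1, h]
  · intro h
    ext v
    rw [mem_iff S o e, mem_iff S o e, h]

include e in
theorem card_eq (x : C) : Nat.card (Vx S (rp p o V) x) = Nat.card (Vx S (rp p o T) x) ^ n := by
  have h1 : Vx S (rp p o V) x ≃ (Fin n → Vx S (rp p o T) x) :=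
    { toFun := fun v i => ⟨e v i, (mem_iff S o e).1 v.2 i⟩
      invFun := fun f => ⟨e.symm fun i => f i, by
        rw [mem_iff S o e, e.apply_symm_apply]
        exact fun i => (f i).2⟩
      left_inv := fun v => by
        apply Subtype.ext
        exact e.symm_apply_apply v
      right_inv := fun f => by
        funext i
        apply Subtype.ext
        change e (e.symm fun i => ((f i : Vx S (rp p o T) x) : T)) i = f i
        rw [e.apply_symm_apply] }
  rw [Nat.card_congr h1, Nat.card_pi, Finset.prod_const, Finset.card_univ, Fintype.card_fin]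

include e in
theorem card_V_eq : Nat.card V = Nat.card T ^ n := by
  rw [Nat.card_congr e.toEquiv, Nat.card_pi, Finset.prod_const, Finset.card_univ, Fintype.card_fin]

variable [F : OppRes.Cox cs] [Fintype C] (hth : Δ.Thick) [Finite T] [IsSimpleModule A T]
  (ho : Subring.closure (Set.range o) = ⊤)

/-- the number `|W : W_J|` -/
noncomputable def rr (T : Type*) [AddCommGroup T] [Module (ZMod p) T] [Module A T] : ℕ :=
  (WJ cs (Jset S (rp p o T))).index

include hth ho

theorem pow_le_T (x : C) : Nat.card (Vx S (rp p o T) x) ^ rr S o T ≤ Nat.card T := by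
  have : Nontrivial T := IsSimpleModule.nontrivial A T
  have h1 := index_mul_le (S := S) (ρ := rp p o T) hth (irr_of_simple p o ho) x
  have h2 : Nat.card T = p ^ Module.finrank (ZMod p) T := by
    rw [Module.natCard_eq_pow_finrank (K := ZMod p), Nat.card_zmod]
  have h3 : Nat.card (Vx S (rp p o T) x) = p ^ Module.finrank (ZMod p) (Vx S (rp p o T) x) := by
    rw [Module.natCard_eq_pow_finrank (K := ZMod p), Nat.card_zmod]
  rw [h2, h3, ← pow_mul]
  refine Nat.pow_le_pow_right hp.1.pos ?_
  rw [mul_comm]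
  exact h1

include e in
theorem pow_le_V (x : C) : Nat.card (Vx S (rp p o V) x) ^ rr S o T ≤ Nat.card V := by
  rw [card_eq S o e, card_V_eq e, ← pow_mul, mul_comm, pow_mul]
  exact Nat.pow_le_pow_left (pow_le_T S o hth ho x) n

/-- two of the spaces are equal or disjoint -/
theorem eq_or_disjoint_T (x y : C) : Vx S (rp p o T) x = Vx S (rp p o T) y ∨
    Disjoint (Vx S (rp p o T) x) (Vx S (rp p o T) y) := by
  obtain ⟨c, -, hc⟩ := exists_apt (Δ := Δ) x
  have h1 := indep_apt (S := S) (ρ := rp p o T) hth (irr_of_simple p o ho) hc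
  have hW : Δ.δ x y = Δ.δ (c 1) (c (Δ.δ x y)) := by rw [hc, inv_one, one_mul]
  obtain ⟨g, hg1, hg2⟩ := exists_smul_pair (S := S) hth hW
  by_cases h2 : Vx S (rp p o T) (c 1) = Vx S (rp p o T) (c (Δ.δ x y))
  · left
    rw [← hg1, ← hg2, Vx_smul, Vx_smul] at h2
    have h3 : Function.Injective (Submodule.map (rp p o T g)) :=
      Submodule.map_injective_of_injective (rhoEquiv (rp p o T) g).injective
    exact h3 h2
  · right
    have h3 := h1.pairwiseDisjoint ⟨1, rfl⟩ ⟨Δ.δ x y, rfl⟩ h2
    change Disjoint (Vx S (rp p o T) (c 1)) (Vx S (rp p o T) (c (Δ.δ x y))) at h3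
    rw [Submodule.disjoint_def] at h3 ⊢
    intro v hv hv'
    have h4 : rp p o T g v = 0 := by
      apply h3
      · have := rho_mem_Vx S (rp p o T) g hv
        rwa [hg1] at this
      · have := rho_mem_Vx S (rp p o T) g hv'
        rwa [hg2] at this
    exact (rhoEquiv (rp p o T) g).injective (h4.trans (map_zero _).symm)

include e in
theorem eq_or_disjoint_V (x y : C) : Vx S (rp p o V) x = Vx S (rp p o V) y ∨
    Disjoint (Vx S (rp p o V) x) (Vx S (rp p o V) y) := by
  rcases eq_or_disjoint_T (T := T) S o hth ho x y with h1 | h1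
  · left
    ext v
    rw [mem_iff S o e, mem_iff S o e, h1]
  · right
    rw [Submodule.disjoint_def] at h1 ⊢
    intro v hv hv'
    rw [mem_iff S o e] at hv hv'
    apply e.injective
    rw [map_zero]
    funext i
    exact h1 _ (hv i) (hv' i)

include e in
/-- representatives of the `U b`-orbits on the fixed spaces -/
theorem exists_reps (hn : 0 < n) (b : C) : ∃ 𝒜 : Finset (Submodule (ZMod p) V), 𝒜.card ≤ rr S o T ∧
    (∀ A ∈ 𝒜, ∃ z, A = Vx S (rp p o V) z) ∧
    ∀ x, ∃ u ∈ S.U b, ∃ A ∈ 𝒜, Vx S (rp p o V) x = A.map (rp p o V u) := by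
  classical
  have : Nontrivial T := IsSimpleModule.nontrivial A T
  obtain ⟨c, hc1, hc⟩ := exists_apt (Δ := Δ) b
  have hW : Finite W := Finite.of_surjective (Δ.δ b) (Δ.exists_δ b)
  letI := Fintype.ofFinite W
  refine ⟨Finset.univ.image fun w => Vx S (rp p o V) (c w), ?_, ?_, ?_⟩
  · have h1 := card_range_eq (S := S) (ρ := rp p o T) hth (irr_of_simple p o ho) hc
    have h2 : (Finset.univ.image fun w => Vx S (rp p o V) (c w)).card ≤
        (Finset.univ.image fun w => Vx S (rp p o T) (c w)).card := by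
      refine Finset.card_le_card_of_surjOn
        (fun L => if h : ∃ w, Vx S (rp p o T) (c w) = L then Vx S (rp p o V) (c h.choose) else ⊥) ?_
      intro A hA
      rw [Finset.coe_image, Finset.coe_univ, Set.image_univ] at hA ⊢
      obtain ⟨w, rfl⟩ := hA
      refine ⟨Vx S (rp p o T) (c w), ⟨w, rfl⟩, ?_⟩
      have h3 : ∃ w', Vx S (rp p o T) (c w') = Vx S (rp p o T) (c w) := ⟨w, rfl⟩
      change dite _ _ _ = _
      rw [dif_pos h3]
      exact (eq_iff' S o e hn).2 h3.choose_spec
    refine h2.trans (le_of_eq ?_)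
    unfold rr
    rw [← h1, Nat.card_coe_set_eq, ← Set.ncard_coe_finset]
    congr 1
    rw [Finset.coe_image, Finset.coe_univ, Set.image_univ]
  · intro A hA
    obtain ⟨w, -, rfl⟩ := Finset.mem_image.1 hA
    exact ⟨_, rfl⟩
  · intro x
    obtain ⟨u, hu, hux⟩ := S.exists_move (x := b) (z := c (Δ.δ b x)) (z' := x) (by
      rw [← hc1, hc, inv_one, one_mul])
    refine ⟨u, hu, _, Finset.mem_image.2 ⟨Δ.δ b x, Finset.mem_univ _, rfl⟩, ?_⟩
    rw [← Vx_smul, hux]

theorem two_le (hnt : ∃ x, ∃ u ∈ S.U x, ∃ v : T, rp p o T u v ≠ v) : 2 ≤ rr S o T := by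
  have : Nontrivial T := IsSimpleModule.nontrivial A T
  obtain ⟨x, u, hu, v, hv⟩ := hnt
  have hW : Finite W := Finite.of_surjective (Δ.δ x) (Δ.exists_δ x)
  by_contra hcon
  have h0 : rr S o T ≠ 0 := Subgroup.index_ne_zero_of_finite
  have h1 : rr S o T = 1 := by omega
  have h2 : WJ cs (Jset S (rp p o T)) = ⊤ := Subgroup.index_eq_one.1 h1
  have hall : ∀ y z, Vx S (rp p o T) y = Vx S (rp p o T) z := by
    intro y z
    obtain ⟨c, hc1, hc⟩ := exists_apt (Δ := Δ) y
    have hW' : Δ.δ y z = Δ.δ (c 1) (c (Δ.δ y z)) := by rw [hc, inv_one, one_mul]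
    obtain ⟨g, hg1, hg2⟩ := exists_smul_pair (S := S) hth hW'
    have h3 : Vx S (rp p o T) (c 1) = Vx S (rp p o T) (c (Δ.δ y z)) := by
      rw [Vx_eq_iff (S := S) hth (irr_of_simple p o ho) hc, h2]
      trivial
    rw [← hg1, ← hg2, Vx_smul, Vx_smul] at h3
    exact (Submodule.map_injective_of_injective (rhoEquiv (rp p o T) g).injective) h3
  have h3 : Vx S (rp p o T) x = ⊤ := by
    refine (irr_of_simple p o ho _ ?_).resolve_left (Vx_ne_bot' (S := S) (ρ := rp p o T) x)
    intro g _ w hw
    rw [hall x (g • x)]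
    exact rho_mem_Vx S (rp p o T) g hw
  have h4 : v ∈ Vx S (rp p o T) x := by rw [h3]; trivial
  exact hv (h4 u hu)

end iso

end Cfsg.Agent.H570.Bn.One
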